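import Groth.Prelude.Def_FDesc
import Groth.Agent.Lib.BaseChange.Irred
import Groth.Agent.Lib.FibreBC.Basic
import Mathlib.AlgebraicGeometry.Geometrically.Integral

/-!
# Connectedness and geometric properties under extensions of the base field
-/

set_option autoImplicit false
set_option linter.style.haveILetI false
universe u

open CategoryTheory CategoryTheory.Limits AlgebraicGeometry

namespace GrothLib.FBase7

open GrothLib.BaseChange

section Top

theorem isConnected_preimage_of_open {A B : Type*} [TopologicalSpace A] [TopologicalSpace B] {f : A → B}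
    (hf : IsOpenMap f) (hc : Continuous f) (hs : Function.Surjective f)
    (hfib : ∀ b, _root_.IsConnected (f ⁻¹' {b})) {S : Set B} (hS : _root_.IsConnected S) :
    _root_.IsConnected (f ⁻¹' S) := by
  rw [isConnected_iff_connectedSpace] at hS ⊢
  let g := S.restrictPreimage f
  have hg : _root_.IsConnected (g ⁻¹' Set.univ) := by
    refine Topology.IsCoinducing.isConnected_preimage_of_isClosed (fun b => ?_) ?_ isClosed_univ
      (connectedSpace_iff_univ.1 hS)
    · suffices h : _root_.IsConnected (Subtype.val '' (g ⁻¹' {b})) from
        ⟨h.nonempty.of_image, Topology.IsInducing.subtypeVal.isPreconnected_image.1 h.isPreconnected⟩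
      convert hfib b.1 using 1
      ext a
      refine ⟨?_, fun ha => ?_⟩
      · rintro ⟨⟨a, ha⟩, h, rfl⟩
        exact congrArg Subtype.val h
      · exact ⟨⟨a, show f a ∈ S from (show f a = b.1 from ha) ▸ b.2⟩, Subtype.ext ha, rfl⟩
    · exact ((hf.restrictPreimage S).isQuotientMap (hc.restrictPreimage) (Set.restrictPreimage_surjective S hs)).isCoinducing
  exact connectedSpace_iff_univ.2 hg

end Top

variable {k : Type u} [Field k] {X : Scheme.{u}} (f : X ⟶ Spec (CommRingCat.of k))

theorem isConnected_preimage_singleton_of_isSepClosed [IsSepClosed k] (K : Type u) [Field K] [Algebra k K] (x : X) :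
    _root_.IsConnected (FBase.bcπ f K ⁻¹' {x}) := by
  let _ : X.Over (Spec (CommRingCat.of k)) := ⟨f⟩
  exact (isIrreducible_preimage_of_isSepClosed k X K isIrreducible_singleton).isConnected

theorem isConnected_preimage_of_isSepClosed' [IsSepClosed k] (K : Type u) [Field K] [Algebra k K] {Z : Set X}
    (hZ : _root_.IsConnected Z) : _root_.IsConnected (FBase.bcπ f K ⁻¹' Z) := by
  let _ : X.Over (Spec (CommRingCat.of k)) := ⟨f⟩
  exact isConnected_preimage_of_open (Curv2.bcFst k X K).isOpenMap (Curv2.bcFst k X K).continuous
    (Curv2.bcFst k X K).surjective (fun x => isConnected_preimage_singleton_of_isSepClosed f K x) hZ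

/-- A set with connected preimages over the algebraic closure: so has its connected component, at every level. -/
theorem isConnected_preimage_component {S : Set X} {y : X} (hy : y ∈ S)
    (hS : _root_.IsConnected (FBase.bcπ f (AlgebraicClosure k) ⁻¹' S)) (K : Type u) [Field K] [Algebra k K] :
    _root_.IsConnected (FBase.bcπ f K ⁻¹' connectedComponent y) := by
  let _ : X.Over (Spec (CommRingCat.of k)) := ⟨f⟩
  let k' := AlgebraicClosure k
  let π := Curv2.bcFst k X k'
  have hS' : _root_.IsConnected (π ⁻¹' S) := hS
  obtain ⟨w₀, hw₀⟩ := π.surjective y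
  have hw₀S : w₀ ∈ π ⁻¹' S := by rw [Set.mem_preimage, hw₀]; exact hy
  have h1 : π ⁻¹' connectedComponent y = connectedComponent w₀ := by
    refine Set.Subset.antisymm (fun z hz => ?_) ?_
    · have : y ∈ π '' connectedComponent z := by
        rw [image_connectedComponent, ← connectedComponent_eq hz]
        exact mem_connectedComponent
      obtain ⟨w, hw, hwy⟩ := this
      have hwS : w ∈ π ⁻¹' S := by rw [Set.mem_preimage, hwy]; exact hy
      rw [connectedComponent_eq (hS'.isPreconnected.subset_connectedComponent hw₀S hwS), ← connectedComponent_eq hw]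
      exact mem_connectedComponent
    · rw [← hw₀]
      exact π.continuous.mapsTo_connectedComponent w₀
  let Ω := AlgebraicClosure K
  let j : k' →ₐ[k] Ω := IsAlgClosed.lift
  let _ : Algebra k' Ω := j.toRingHom.toAlgebra
  have : IsScalarTower k k' Ω := IsScalarTower.of_algebraMap_eq fun a => (j.commutes a).symm
  have := geometricallyConnected_bcMap k X k' Ω
  have h2 := (bcMap k X k' Ω).isConnected_preimage (bcMap k X k' Ω).isOpenMap
    (isConnected_connectedComponent (x := w₀)) isClosed_connectedComponent
  have h3 := h2.image (bcMap k X K Ω) (bcMap k X K Ω).continuous.continuousOn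
  show _root_.IsConnected (Curv2.bcFst k X K ⁻¹' connectedComponent y)
  convert! h3 using 1
  rw [← h1, ← Set.preimage_comp, ← TopCat.coe_comp, ← Scheme.Hom.comp_base, bcMap_fst,
    ← bcMap_fst k X K Ω, Scheme.Hom.comp_base, TopCat.coe_comp, Set.preimage_comp,
    Set.image_preimage_eq _ (bcMap k X K Ω).surjective]

variable {Y : Scheme.{u}} (g : Y ⟶ Spec (CommRingCat.of k)) (h : Y ⟶ X) (w : h ≫ f = g)

include w

theorem isConnected_preimage_range [GeometricallyConnected g] (K : Type u) [Field K] [Algebra k K] :
    _root_.IsConnected (FBase.bcπ f K ⁻¹' Set.range h) := by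
  let σ := Spec.map (CommRingCat.ofHom (algebraMap k K))
  let φ : pullback g σ ⟶ pullback f σ := pullback.map g σ f σ h (𝟙 _) (𝟙 _)
    (by rw [Category.comp_id, w]) (by rw [Category.comp_id, Category.id_comp])
  have hr : Set.range φ = FBase.bcπ f K ⁻¹' Set.range h := by
    rw [Scheme.Pullback.range_map]
    have : Set.range (𝟙 (Spec (CommRingCat.of K)) : Spec (CommRingCat.of K) ⟶ _) = Set.univ :=
      Set.range_eq_univ.2 fun a => ⟨a, rfl⟩
    rw [this, Set.preimage_univ, Set.inter_univ]
    rfl
  have : ConnectedSpace ↥(pullback g σ) :=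
    GeometricallyConnected.geometrically_connectedSpace _ _ _ (IsPullback.of_hasPullback g σ)
  rw [← hr]
  exact isConnected_range φ.continuous

theorem isConnected_preimage_component_range [GeometricallyConnected g] (y : Y) (K : Type u) [Field K] [Algebra k K] :
    _root_.IsConnected (FBase.bcπ f K ⁻¹' connectedComponent (h y)) :=
  isConnected_preimage_component f (Set.mem_range_self y) (isConnected_preimage_range f g h w _) K

theorem geometricallyConnected_of_range [GeometricallyConnected g] [ConnectedSpace X] [Nonempty Y] :
    GeometricallyConnected f := by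
  let _ : X.Over (Spec (CommRingCat.of k)) := ⟨f⟩
  refine (geometricallyConnected_iff_forall k X).2 fun K _ _ => connectedSpace_iff_univ.2 ?_
  obtain ⟨y⟩ := ‹Nonempty Y›
  have := isConnected_preimage_component_range f g h w y K
  rwa [PreconnectedSpace.connectedComponent_eq_univ, Set.preimage_univ] at this

omit w

section Descent

variable {X Y Y' : Scheme.{u}} {P : ObjectProperty Scheme.{u}}

theorem geometrically_of_pullback_snd (hdesc : ∀ {Z' Z : Scheme.{u}} (π : Z' ⟶ Z) [Flat π] [Surjective π], P Z' → P Z)
    (f : X ⟶ Y) (g : Y' ⟶ Y) [Surjective g] (h : geometrically P (pullback.snd f g)) : geometrically P f := by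
  rw [geometrically_iff_forall_fiberToSpecResidueField] at h ⊢
  intro y
  obtain ⟨y', rfl⟩ := g.surjective y
  exact (GrothLib.FibreBC.geometrically_fiber_iff P hdesc (IsPullback.of_hasPullback f g) y').1 (h y')

theorem desc_irreducible {Z' Z : Scheme.{u}} (π : Z' ⟶ Z) [Surjective π] (h : IrreducibleSpace Z') :
    IrreducibleSpace Z :=
  π.surjective.irreducibleSpace π.continuous

theorem desc_connected {Z' Z : Scheme.{u}} (π : Z' ⟶ Z) [Surjective π] (h : ConnectedSpace Z') :
    ConnectedSpace Z :=
  π.surjective.connectedSpace π.continuous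

theorem desc_integral {Z' Z : Scheme.{u}} (π : Z' ⟶ Z) [Flat π] [Surjective π] (h : IsIntegral Z') :
    IsIntegral Z := by
  have := π.surjective.irreducibleSpace π.continuous
  have := GrothLib.CurveLocus.isReduced_of_flat_of_surjective π
  exact isIntegral_of_irreducibleSpace_of_isReduced Z

end Descent

theorem surjective_specMap {k K : Type u} [Field k] [Field K] (i : k →+* K) :
    Surjective (Spec.map (CommRingCat.ofHom i)) :=
  GrothLib.CurveLocus.surjective_to_spec_field _

theorem geometrically_bc_iff (P : ObjectProperty Scheme.{u})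
    (hdesc : ∀ {Z' Z : Scheme.{u}} (π : Z' ⟶ Z) [Flat π] [Surjective π], P Z' → P Z) (K : Type u) [Field K]
    [Algebra k K] : geometrically P f ↔ geometrically P (FBase.bcStr f K) :=
  ⟨fun h => MorphismProperty.pullback_snd _ _ h,
    fun h => @geometrically_of_pullback_snd _ _ _ P hdesc f _ (surjective_specMap _) h⟩

end GrothLib.FBase7
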