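import Groth.Agent.S4662
import Groth.Agent.Lib.Dim.Scheme
import Groth.Agent.Lib.Dim.QuasiFinite
import Groth.Agent.Lib.BaseChange.Irred
import Groth.Agent.Lib.CurveLocus.Basic
import Groth.Agent.Lib.LocNoeth.Scheme
import Groth.Prelude.Def_FDesc

/-!
# Dimensions of products and base changes over a field
-/

set_option autoImplicit false
set_option linter.style.haveILetI false
universe u

open CategoryTheory CategoryTheory.Limits AlgebraicGeometry TopologicalSpace Topology

namespace GrothLib.FBase7

variable {k : Type u} [Field k]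

theorem dim_component_bc {K : Type u} [Field K] [Algebra k K] {X : Scheme.{u}} (f : X ⟶ Spec (CommRingCat.of k))
    [LocallyOfFiniteType f] {Z : Set X} (hZc : IsClosed Z) (hZi : IsIrreducible Z) {W : Set ↥(FBase.bc f K)}
    (hW : W ∈ irreducibleComponents ↥(FBase.bc f K)) (hWZ : W ⊆ FBase.bcπ f K ⁻¹' Z) :
    topologicalKrullDim ↥W = topologicalKrullDim ↥Z := by
  let φ := Spec.map (CommRingCat.ofHom (algebraMap k K))
  let e := pullbackSymmetry φ f
  have he : e.hom ≫ FBase.bcπ f K = pullback.snd φ f := pullbackSymmetry_hom_comp_fst φ f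
  let g : ↥(pullback.snd φ f ⁻¹' Z) → ↥(FBase.bc f K) := fun y => e.hom y.1
  have hge : IsEmbedding g := e.hom.isEmbedding.comp IsEmbedding.subtypeVal
  have hr : Set.range g = FBase.bcπ f K ⁻¹' Z := by
    ext z
    obtain ⟨y, rfl⟩ := e.hom.surjective z
    have : FBase.bcπ f K (e.hom y) = pullback.snd φ f y := by rw [← he]; rfl
    constructor
    · rintro ⟨y', hy'⟩
      have hy := e.hom.isEmbedding.injective hy'
      show FBase.bcπ f K (e.hom y) ∈ Z
      rw [this, ← hy]
      exact y'.2
    · intro hz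
      exact ⟨⟨y, show pullback.snd φ f y ∈ Z from this ▸ hz⟩, rfl⟩
  have hmem : g ⁻¹' W ∈ irreducibleComponents ↥(pullback.snd φ f ⁻¹' Z) := by
    have him : g '' (g ⁻¹' W) = W := by
      rw [Set.image_preimage_eq_inter_range, hr, Set.inter_eq_left.2 hWZ]
    refine ⟨⟨?_, ?_⟩, fun V hV hle y hy => ?_⟩
    · obtain ⟨w, hw⟩ := hW.1.nonempty
      obtain ⟨y, rfl⟩ := hr.ge (hWZ hw)
      exact ⟨y, hw⟩
    · exact GrothLib.CurveLocus.isPreirreducible_of_image hge.isInducing (by rw [him]; exact hW.1.2)
    · exact hW.2 (hV.image g hge.continuous.continuousOn) (him.symm.le.trans (Set.image_mono hle)) ⟨y, hy, rfl⟩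
  rw [← GrothLib.Dim.topologicalKrullDim_component_preimage f hZc hZi _ hmem]
  refine (GrothLib.Dim.IsEmbedding.topologicalKrullDim_eq (f := fun y : g ⁻¹' W => g y.1)
    (hge.comp IsEmbedding.subtypeVal) ?_).symm
  refine (Set.range_comp g Subtype.val).trans ?_
  rw [Subtype.range_coe, Set.image_preimage_eq_inter_range, hr, Set.inter_eq_left.2 hWZ]

theorem image_dims_bc {K : Type u} [Field K] [Algebra k K] {X : Scheme.{u}} (f : X ⟶ Spec (CommRingCat.of k))
    [LocallyOfFiniteType f] :
    (fun Z : Set ↥(FBase.bc f K) => topologicalKrullDim ↥Z) '' irreducibleComponents ↥(FBase.bc f K) =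
      (fun Z : Set ↥X => topologicalKrullDim ↥Z) '' irreducibleComponents ↥X := by
  let _ : X.Over (Spec (CommRingCat.of k)) := ⟨f⟩
  ext d
  constructor
  · rintro ⟨W, hW, rfl⟩
    obtain ⟨t, ht⟩ := BaseChange.exists_generic hW
    obtain ⟨h1, h2⟩ := BaseChange.image_irreducibleComponent k X K hW ht
    exact ⟨_, h2, (dim_component_bc f isClosed_closure isIrreducible_singleton.closure hW
      (fun w hw => h1.le ⟨w, hw, rfl⟩)).symm⟩
  · rintro ⟨Z, hZ, rfl⟩
    obtain ⟨x, hx⟩ := hZ.1.nonempty
    obtain ⟨z, rfl⟩ := (Curv2.bcFst k X K).surjective x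
    obtain ⟨T, hT, -, hTZ⟩ := BaseChange.exists_component_over k X K hZ z hx
    exact ⟨T, hT, dim_component_bc f (isClosed_of_mem_irreducibleComponents Z hZ) hZ.1 hT
      (fun w hw => hTZ.le ⟨w, hw, rfl⟩)⟩

variable {X Y : Scheme.{u}}

/-- The reduced subscheme on an irreducible closed subset. -/
theorem exists_integral_subscheme {Z : Set X} (hZc : IsClosed Z) (hZi : IsIrreducible Z) :
    ∃ (Z' : Scheme.{u}) (i : Z' ⟶ X), IsIntegral Z' ∧ IsClosedImmersion i ∧ Set.range i = Z := by
  let I := Scheme.IdealSheafData.vanishingIdeal (⟨Z, hZc⟩ : Closeds X)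
  have hr : Set.range I.subschemeι = Z := RedSub.range_subschemeι_vanishingIdeal _
  have : AlgebraicGeometry.IsReduced I.subscheme := RedSub.isReduced_subscheme_vanishingIdeal _
  have : IrreducibleSpace (Set.range I.subschemeι) := by rw [hr]; exact Subtype.irreducibleSpace hZi
  have : IrreducibleSpace I.subscheme :=
    Function.Surjective.irreducibleSpace (f := (I.subschemeι.isEmbedding.toHomeomorph).symm)
      (Homeomorph.continuous _) (Homeomorph.surjective _)
  exact ⟨I.subscheme, I.subschemeι, (isIntegral_iff_irreducibleSpace_and_isReduced _).2 ⟨‹_›, ‹_›⟩, inferInstance, hr⟩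

variable (f : X ⟶ Spec (CommRingCat.of k)) (g : Y ⟶ Spec (CommRingCat.of k))

theorem isClosedImmersion_map {A B : Scheme.{u}} (a : A ⟶ X) (b : B ⟶ Y) [IsClosedImmersion a] [IsClosedImmersion b] :
    IsClosedImmersion (pullback.map (a ≫ f) (b ≫ g) f g a b (𝟙 _) (by rw [Category.comp_id]) (by rw [Category.comp_id])) := by
  let m1 : pullback (a ≫ f) (b ≫ g) ⟶ pullback f (b ≫ g) :=
    pullback.map _ _ _ _ a (𝟙 _) (𝟙 _) (by rw [Category.comp_id]) (by rw [Category.comp_id, Category.id_comp])
  let m2 : pullback f (b ≫ g) ⟶ pullback f g :=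
    pullback.map _ _ _ _ (𝟙 _) b (𝟙 _) (by rw [Category.comp_id, Category.id_comp]) (by rw [Category.comp_id])
  have h1 : IsPullback m1 (pullback.fst (a ≫ f) (b ≫ g)) (pullback.fst f (b ≫ g)) a := by
    refine IsPullback.of_right (h₁₂ := pullback.snd f (b ≫ g)) (v₁₃ := b ≫ g) (h₂₂ := f) ?_ (pullback.lift_fst _ _ _)
      (IsPullback.of_hasPullback f (b ≫ g)).flip
    rw [show m1 ≫ pullback.snd f (b ≫ g) = pullback.snd (a ≫ f) (b ≫ g) from
      (pullback.lift_snd _ _ _).trans (Category.comp_id _)]
    exact (IsPullback.of_hasPullback (a ≫ f) (b ≫ g)).flip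
  have h2 : IsPullback m2 (pullback.snd f (b ≫ g)) (pullback.snd f g) b := by
    refine IsPullback.of_right (h₁₂ := pullback.fst f g) (v₁₃ := f) (h₂₂ := g) ?_ (pullback.lift_snd _ _ _)
      (IsPullback.of_hasPullback f g)
    rw [show m2 ≫ pullback.fst f g = pullback.fst f (b ≫ g) from (pullback.lift_fst _ _ _).trans (Category.comp_id _)]
    exact IsPullback.of_hasPullback f (b ≫ g)
  haveI : IsClosedImmersion m1 := MorphismProperty.of_isPullback h1.flip ‹_›
  haveI : IsClosedImmersion m2 := MorphismProperty.of_isPullback h2.flip ‹_›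
  have e : pullback.map (a ≫ f) (b ≫ g) f g a b (𝟙 _) (by rw [Category.comp_id]) (by rw [Category.comp_id]) = m1 ≫ m2 := by
    refine pullback.hom_ext ?_ ?_
    · refine (pullback.lift_fst _ _ _).trans ((?_ : _ = (m1 ≫ pullback.fst f (b ≫ g))).trans ?_)
      · exact (pullback.lift_fst _ _ _).symm
      · refine Eq.trans ?_ (Category.assoc _ _ _).symm
        exact congrArg (m1 ≫ ·) ((pullback.lift_fst _ _ _).trans (Category.comp_id _)).symm
    · refine (pullback.lift_snd _ _ _).trans ((?_ : _ = (m1 ≫ pullback.snd f (b ≫ g)) ≫ b).trans ?_)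
      · exact congrArg (· ≫ b) ((pullback.lift_snd _ _ _).trans (Category.comp_id _)).symm
      · refine (Category.assoc _ _ _).trans (Eq.trans ?_ (Category.assoc _ _ _).symm)
        exact congrArg (m1 ≫ ·) (pullback.lift_snd _ _ _).symm
  rw [e]
  infer_instance

theorem le_of_lt_natCast_succ {x : WithBot ℕ∞} {m : ℕ} (h : x < ((m + 1 : ℕ) : WithBot ℕ∞)) :
    x ≤ (m : WithBot ℕ∞) := by
  induction x using WithBot.recBotCoe with
  | bot => exact bot_le
  | coe a =>
    rw [← WithBot.coe_natCast, WithBot.coe_lt_coe] at h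
    rw [← WithBot.coe_natCast, WithBot.coe_le_coe]
    exact ENat.lt_add_one_iff (ENat.coe_ne_top m) |>.1 (by simpa using h)

theorem exists_product_of_components {X' : Set X} (hX' : X' ∈ irreducibleComponents X) {Y' : Set Y}
    (hY' : Y' ∈ irreducibleComponents Y) [LocallyOfFiniteType f] [LocallyOfFiniteType g] :
    ∃ (P : Scheme.{u}) (j : P ⟶ pullback f g), Nonempty ↥P ∧ IsEmbedding j ∧
      Set.range j = pullback.fst f g ⁻¹' X' ∩ pullback.snd f g ⁻¹' Y' ∧
      ∀ W ∈ irreducibleComponents ↥P, topologicalKrullDim ↥W = topologicalKrullDim ↥X' + topologicalKrullDim ↥Y' := by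
  obtain ⟨A, a, _, _, ha⟩ := exists_integral_subscheme (isClosed_of_mem_irreducibleComponents _ hX') hX'.1
  obtain ⟨B, b, _, _, hb⟩ := exists_integral_subscheme (isClosed_of_mem_irreducibleComponents _ hY') hY'.1
  let j : pullback (a ≫ f) (b ≫ g) ⟶ pullback f g :=
    pullback.map _ _ _ _ a b (𝟙 _) (by rw [Category.comp_id]) (by rw [Category.comp_id])
  have hr : Set.range j = pullback.fst f g ⁻¹' X' ∩ pullback.snd f g ⁻¹' Y' := by
    rw [Scheme.Pullback.range_map, ha, hb]
  refine ⟨_, j, ?_, (haveI := isClosedImmersion_map f g a b; j.isEmbedding), hr, fun W hW => ?_⟩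
  · obtain ⟨z, -, -⟩ := Scheme.Pullback.exists_preimage_pullback (f := a ≫ f) (g := b ≫ g)
      (genericPoint A) (genericPoint B) (Subsingleton.elim (α := Spec (CommRingCat.of k)) _ _)
    exact ⟨z⟩
  · rw [Groth.Agent.S4662.result (a ≫ f) (b ≫ g) W hW,
      GrothLib.Dim.IsEmbedding.topologicalKrullDim_eq a.isEmbedding ha,
      GrothLib.Dim.IsEmbedding.topologicalKrullDim_eq b.isEmbedding hb]

theorem topologicalKrullDim_pullback_eq_add [LocallyOfFiniteType f] [LocallyOfFiniteType g] :
    topologicalKrullDim ↥(pullback f g) = topologicalKrullDim ↥X + topologicalKrullDim ↥Y := by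
  refine le_antisymm (GrothLib.CurveLocus.topologicalKrullDim_le_of_components _ fun W hW => ?_) ?_
  · obtain ⟨X', hX', hWX⟩ := exists_mem_irreducibleComponents_subset_of_isIrreducible _
      (hW.1.image (pullback.fst f g) (pullback.fst f g).continuous.continuousOn)
    obtain ⟨Y', hY', hWY⟩ := exists_mem_irreducibleComponents_subset_of_isIrreducible _
      (hW.1.image (pullback.snd f g) (pullback.snd f g).continuous.continuousOn)
    obtain ⟨P, j, -, hj, hr, hdim⟩ := exists_product_of_components f g hX' hY'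
    have hWr : W ⊆ Set.range j := fun w hw => hr.ge ⟨hWX ⟨w, hw, rfl⟩, hWY ⟨w, hw, rfl⟩⟩
    have him : j '' (j ⁻¹' W) = W := by rw [Set.image_preimage_eq_inter_range, Set.inter_eq_left.2 hWr]
    have hmem : j ⁻¹' W ∈ irreducibleComponents ↥P := by
      refine ⟨⟨?_, ?_⟩, fun V hV hle y hy => ?_⟩
      · obtain ⟨w, hw⟩ := hW.1.nonempty
        obtain ⟨y, rfl⟩ := hWr hw
        exact ⟨y, hw⟩
      · exact GrothLib.CurveLocus.isPreirreducible_of_image hj.isInducing (by rw [him]; exact hW.1.2)
      · exact hW.2 (hV.image j hj.continuous.continuousOn) (him.symm.le.trans (Set.image_mono hle)) ⟨y, hy, rfl⟩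
    have e : topologicalKrullDim ↥(j ⁻¹' W) = topologicalKrullDim ↥W :=
      GrothLib.Dim.IsEmbedding.topologicalKrullDim_eq (f := fun y : ↥(j ⁻¹' W) => j y.1)
        (hj.comp IsEmbedding.subtypeVal) ((Set.range_comp j Subtype.val).trans (by rw [Subtype.range_coe, him]))
    rw [← e, hdim _ hmem]
    exact add_le_add (topologicalKrullDim_subspace_le X X') (topologicalKrullDim_subspace_le Y Y')
  · unfold topologicalKrullDim
    rcases isEmpty_or_nonempty (IrreducibleCloseds X) with hX | hX
    · rw [Order.krullDim_eq_bot (α := IrreducibleCloseds X), WithBot.bot_add]; exact bot_le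
    rcases isEmpty_or_nonempty (IrreducibleCloseds Y) with hY | hY
    · rw [Order.krullDim_eq_bot (α := IrreducibleCloseds Y), WithBot.add_bot]; exact bot_le
    have key : ∀ (l : LTSeries (IrreducibleCloseds X)) (l' : LTSeries (IrreducibleCloseds Y)),
        (((l.length : ℕ∞) + l'.length : ℕ∞) : WithBot ℕ∞) ≤ topologicalKrullDim ↥(pullback f g) := by
      intro l l'
      obtain ⟨X', hX', hlX⟩ := exists_mem_irreducibleComponents_subset_of_isIrreducible _ l.last.isIrreducible
      obtain ⟨Y', hY', hlY⟩ := exists_mem_irreducibleComponents_subset_of_isIrreducible _ l'.last.isIrreducible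
      obtain ⟨P, j, hP, hj, -, hdim⟩ := exists_product_of_components f g hX' hY'
      obtain ⟨z⟩ := hP
      have h0 := hdim _ (irreducibleComponent_mem_irreducibleComponents z)
      have h1 : topologicalKrullDim ↥X' + topologicalKrullDim ↥Y' ≤ topologicalKrullDim ↥(pullback f g) :=
        h0 ▸ (topologicalKrullDim_subspace_le _ _).trans hj.isInducing.topologicalKrullDim_le
      refine le_trans ?_ h1
      rw [WithBot.coe_add]
      exact add_le_add (length_le_dim l hlX) (length_le_dim l' hlY)
    have hne : Nonempty ↥(pullback f g) := by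
      obtain ⟨x, -⟩ := hX.some.isIrreducible.nonempty
      obtain ⟨y, -⟩ := hY.some.isIrreducible.nonempty
      obtain ⟨z, -, -⟩ := Scheme.Pullback.exists_preimage_pullback (f := f) (g := g) x y
        (Subsingleton.elim (α := Spec (CommRingCat.of k)) _ _)
      exact ⟨z⟩
    have hneI : Nonempty (IrreducibleCloseds ↥(pullback f g)) :=
      ⟨⟨_, (isIrreducible_singleton (x := hne.some)).closure, isClosed_closure⟩⟩
    unfold topologicalKrullDim at key
    rw [Order.krullDim_eq_iSup_length, Order.krullDim_eq_iSup_length, Order.krullDim_eq_iSup_length,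
      ← WithBot.coe_add, WithBot.coe_le_coe]
    simp only [Order.krullDim_eq_iSup_length, WithBot.coe_le_coe] at key
    exact ENat.iSup_add_iSup_le key
where
  length_le_dim {T : Type u} [TopologicalSpace T] (l : LTSeries (IrreducibleCloseds T)) {S : Set T}
      (hl : (l.last : Set T) ⊆ S) : ((l.length : ℕ∞) : WithBot ℕ∞) ≤ topologicalKrullDim ↥S := by
    have hle : ∀ i, (l i : Set T) ⊆ S := fun i =>
      Set.Subset.trans (show (l i : Set T) ⊆ (l.last : Set T) from l.monotone (Fin.le_last i)) hl
    let l' : LTSeries (IrreducibleCloseds S) :=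
      LTSeries.mk l.length (fun i =>
        ⟨Subtype.val ⁻¹' (l i : Set T),
          ⟨by
            obtain ⟨x, hx⟩ := (l i).isIrreducible.nonempty
            exact ⟨⟨x, hle i hx⟩, hx⟩,
           GrothLib.CurveLocus.isPreirreducible_of_image IsEmbedding.subtypeVal.isInducing (by
             rw [Subtype.image_preimage_coe, Set.inter_eq_right.2 (hle i)]
             exact (l i).isIrreducible.2)⟩,
          (l i).isClosed.preimage continuous_subtype_val⟩) (by
        intro i j hij
        have := l.strictMono hij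
        refine ⟨fun x hx => this.le hx, fun h' => this.not_ge fun x hx => ?_⟩
        exact h' (show (⟨x, hle j hx⟩ : S) ∈ Subtype.val ⁻¹' (l j : Set T) from hx))
    exact le_iSup_of_le l' le_rfl

/-- In an equidimensional scheme, nowhere dense means smaller dimension. -/
theorem isNowhereDense_iff_dim_lt {Y : Scheme.{u}} [Nonempty ↥Y] (g : Y ⟶ Spec (CommRingCat.of k))
    [LocallyOfFiniteType g] (heq : ∀ T ∈ irreducibleComponents ↥Y, topologicalKrullDim ↥T = topologicalKrullDim ↥Y)
    (Z : Set ↥Y) (hZ : IsLocallyClosed Z) :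
    IsNowhereDense Z ↔ topologicalKrullDim ↥Z < topologicalKrullDim ↥Y := by
  haveI : IsLocallyNoetherian Y := LocallyOfFiniteType.isLocallyNoetherian g
  have hcomp : ∀ T ∈ irreducibleComponents ↥Y, ∃ U : Y.Opens, (U : Set Y).Nonempty ∧ (U : Set Y) ⊆ T := by
    intro T hT
    obtain ⟨η, hη⟩ := BaseChange.exists_generic hT
    have hp : (nilradical (Y.presheaf.stalk η)).IsPrime := (LocNoeth.nilradical_isPrime_iff Y η).2
      fun A hA B hB hηA hηB => by
        have hTA : T ⊆ A := (hη.mem_closed_set_iff (isClosed_of_mem_irreducibleComponents _ hA)).1 hηA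
        have hTB : T ⊆ B := (hη.mem_closed_set_iff (isClosed_of_mem_irreducibleComponents _ hB)).1 hηB
        rw [← hT.eq_of_le hA.1 hTA, ← hT.eq_of_le hB.1 hTB]
    obtain ⟨U, hηU, hU⟩ := LocNoeth.exists_irreducible_nhd η hp
    obtain ⟨T', hT', hUT'⟩ := exists_mem_irreducibleComponents_subset_of_isIrreducible _ hU
    have hTT' : T ⊆ T' := (hη.mem_closed_set_iff (isClosed_of_mem_irreducibleComponents _ hT')).1 (hUT' hηU)
    exact ⟨U, ⟨η, hηU⟩, by rw [hT.eq_of_le hT'.1 hTT']; exact hUT'⟩
  constructor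
  · intro hnd
    obtain ⟨x⟩ := ‹Nonempty ↥Y›
    have hx := irreducibleComponent_mem_irreducibleComponents x
    obtain ⟨n, hn, -⟩ := GrothLib.Dim.exists_nat_dim_irreducible g
      (isClosed_of_mem_irreducibleComponents _ hx) hx.1
    have hY : topologicalKrullDim ↥Y = n := (heq _ hx).symm.trans hn
    have hmono : topologicalKrullDim ↥Z ≤ topologicalKrullDim ↥(closure Z) :=
      (IsEmbedding.inclusion subset_closure).isInducing.topologicalKrullDim_le
    refine lt_of_le_of_lt hmono ?_
    rw [hY]
    by_contra hcon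
    rw [not_lt] at hcon
    by_cases hzero : ∀ W ∈ irreducibleComponents ↥(closure Z), topologicalKrullDim ↥W < n
    · -- every component of `closure Z` is too small
      rcases n with _ | m
      · obtain ⟨w⟩ : Nonempty ↥(closure Z) := by
          by_contra hne
          rw [not_nonempty_iff] at hne
          haveI : IsEmpty (IrreducibleCloseds ↥(closure Z)) := ⟨fun F => by
            obtain ⟨w, -⟩ := F.isIrreducible.nonempty
            exact hne.false w⟩
          rw [topologicalKrullDim, Order.krullDim_eq_bot (α := IrreducibleCloseds ↥(closure Z))] at hcon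
          simp at hcon
        have := hzero _ (irreducibleComponent_mem_irreducibleComponents w)
        have h0 : (0 : WithBot ℕ∞) ≤ topologicalKrullDim ↥(irreducibleComponent w) := by
          rw [topologicalKrullDim, Order.krullDim_nonneg_iff]
          exact ⟨⟨_, (isIrreducible_singleton (x := (⟨w, mem_irreducibleComponent⟩ : ↥(irreducibleComponent w)))).closure, isClosed_closure⟩⟩
        exact absurd this (not_lt.2 (by exact_mod_cast h0))
      · have hle := GrothLib.CurveLocus.topologicalKrullDim_le_of_components (T := ↥(closure Z)) (m : WithBot ℕ∞)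
          fun W hW => by
            have := hzero W hW
            exact le_of_lt_natCast_succ this
        have := hcon.trans hle
        have h' : m + 1 ≤ m := by exact_mod_cast this
        omega
    · push Not at hzero
      obtain ⟨W, hW, hWn⟩ := hzero
      obtain ⟨T, hT, hWT⟩ := exists_mem_irreducibleComponents_subset_of_isIrreducible _
        (hW.1.image Subtype.val continuous_subtype_val.continuousOn)
      have hWc : IsClosed (Subtype.val '' W : Set ↥Y) :=
        isClosed_closure.isClosedMap_subtype_val _ (isClosed_of_mem_irreducibleComponents W hW)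
      have hdimW : topologicalKrullDim ↥W = topologicalKrullDim ↥(Subtype.val ⁻¹' (Subtype.val '' W) : Set ↥T) := by
        refine (GrothLib.Dim.IsEmbedding.topologicalKrullDim_eq (f := fun w : W => (⟨w.1.1, hWT ⟨_, w.2, rfl⟩⟩ : T))
          (((IsEmbedding.subtypeVal.comp IsEmbedding.subtypeVal) : IsEmbedding fun w : W => w.1.1).codRestrict T _) ?_)
        ext t
        constructor
        · rintro ⟨w, rfl⟩; exact ⟨w.1, w.2, rfl⟩
        · rintro ⟨w, hw, hwt⟩; exact ⟨⟨w, hw⟩, Subtype.ext hwt⟩
      haveI : IrreducibleSpace ↥T := Subtype.irreducibleSpace hT.1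
      obtain ⟨m, hm, -⟩ := GrothLib.Dim.exists_nat_dim_irreducible g hWc (hW.1.image _ continuous_subtype_val.continuousOn)
      have hmW : topologicalKrullDim ↥W = m :=
        (GrothLib.Dim.IsEmbedding.topologicalKrullDim_eq (f := fun w : W => w.1.1)
          (IsEmbedding.subtypeVal.comp IsEmbedding.subtypeVal) (by ext y; simp)).trans hm
      have huniv := GrothLib.Dim.eq_univ_of_dim_le (hWc.preimage continuous_subtype_val)
        (by rw [← hdimW, heq T hT, hY]; exact hWn) (hdimW.symm.trans hmW)
      obtain ⟨U, hUne, hUT⟩ := hcomp T hT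
      obtain ⟨y, hy⟩ := hUne
      have hsub : (U : Set Y) ⊆ closure Z := fun y hy => by
        obtain ⟨w, -, hw⟩ := Set.eq_univ_iff_forall.1 huniv ⟨y, hUT hy⟩
        exact (show w.1 = y from hw) ▸ w.2
      have := interior_maximal hsub U.2 hy
      rw [hnd] at this
      exact this
  · intro hlt
    by_contra hnd
    obtain ⟨y, hy⟩ := Set.nonempty_iff_ne_empty.2 hnd
    have hx := irreducibleComponent_mem_irreducibleComponents y
    obtain ⟨n, hn, hnU⟩ := GrothLib.Dim.exists_nat_dim_irreducible g
      (isClosed_of_mem_irreducibleComponents _ hx) hx.1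
    obtain ⟨V, C, hV, hC, rfl⟩ := hZ
    let W : Y.Opens := ⟨interior (closure (V ∩ C)), isOpen_interior⟩
    have hWC : (W : Set Y) ⊆ C := interior_subset.trans (closure_minimal Set.inter_subset_right hC)
    obtain ⟨η, hη⟩ := BaseChange.exists_generic hx
    have hηW : η ∈ W := (hη.specializes mem_irreducibleComponent).mem_open W.2 hy
    obtain ⟨U, ⟨u₀, hu₀⟩, hUT⟩ := hcomp _ hx
    have hηU : η ∈ U := (hη.specializes (hUT hu₀)).mem_open U.2 hu₀
    obtain ⟨v, ⟨hvW, hvU⟩, hvV, -⟩ := mem_closure_iff.1 (interior_subset hηW) ((W ⊓ U : Y.Opens) : Set Y)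
      (W ⊓ U).2 ⟨hηW, hηU⟩
    have hηV : η ∈ V := (hη.specializes (hUT hvU)).mem_open hV hvV
    have h1 := hnU (W ⊓ U ⊓ ⟨V, hV⟩) ⟨η, hη.mem, ⟨hηW, hηU⟩, hηV⟩
    have h2 : irreducibleComponent y ∩ ((W ⊓ U ⊓ ⟨V, hV⟩ : Y.Opens) : Set Y) ⊆ V ∩ C :=
      fun z hz => ⟨hz.2.2, hWC hz.2.1.1⟩
    have h3 := (IsEmbedding.inclusion h2).isInducing.topologicalKrullDim_le
    rw [h1, ← hn, heq _ hx] at h3
    exact absurd hlt (not_lt.2 h3)

end GrothLib.FBase7
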