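import Groth.Prelude.Def_FDesc
import Groth.Agent.Lib.FBase7.Conn
import Groth.Agent.Lib.GrpSchField.ReducedProd
import Mathlib.AlgebraicGeometry.Geometrically.Reduced

/-!
# Reducedness of products over a field
-/

set_option autoImplicit false
set_option linter.style.haveILetI false
universe u

open CategoryTheory CategoryTheory.Limits AlgebraicGeometry
open scoped TensorProduct

namespace GrothLib.FBase7

variable {k : Type u} [Field k] {X : Scheme.{u}} (f : X ⟶ Spec (CommRingCat.of k))

theorem isGeometricallyReduced_of_open [GeometricallyReduced f] {A : CommRingCat.{u}} (i : Spec A ⟶ X)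
    [IsOpenImmersion i] [Algebra k A] (hi : i ≫ f = Spec.map (CommRingCat.ofHom (algebraMap k A))) :
    Algebra.IsGeometricallyReduced k A := by
  let K := AlgebraicClosure k
  let τ := Spec.map (CommRingCat.ofHom (algebraMap k K))
  haveI : AlgebraicGeometry.IsReduced (pullback f τ) :=
    ‹GeometricallyReduced f›.geometrically_isReduced _ _ _ (.of_hasPullback f τ)
  haveI : AlgebraicGeometry.IsReduced (pullback i (pullback.fst f τ)) :=
    isReduced_of_isOpenImmersion (pullback.snd i (pullback.fst f τ))
  have hsq := (IsPullback.of_hasPullback i (pullback.fst f τ)).flip.paste_horiz (IsPullback.of_hasPullback f τ).flip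
  haveI hRed : AlgebraicGeometry.IsReduced (pullback (i ≫ f) τ) :=
    isReduced_of_isOpenImmersion hsq.flip.isoPullback.inv
  haveI : AlgebraicGeometry.IsReduced (Spec (CommRingCat.of ((A : Type u) ⊗[k] K))) := by
    rw [hi] at hRed
    exact isReduced_of_isOpenImmersion (pullbackSpecIso k A K).inv
  haveI : _root_.IsReduced ((A : Type u) ⊗[k] K) :=
    (affine_isReduced_iff (CommRingCat.of ((A : Type u) ⊗[k] K))).1 inferInstance
  haveI : _root_.IsReduced (K ⊗[k] A) :=
    isReduced_of_injective (Algebra.TensorProduct.comm k K A) (Algebra.TensorProduct.comm k K A).injective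
  exact (Algebra.isGeometricallyReduced_field_iff k A).2 inferInstance

/-- The product of a geometrically reduced scheme and a reduced scheme is reduced. -/
theorem isReduced_pullback_of_geometricallyReduced [GeometricallyReduced f] {S : Scheme.{u}}
    (g : S ⟶ Spec (CommRingCat.of k)) [AlgebraicGeometry.IsReduced S] :
    AlgebraicGeometry.IsReduced (pullback f g) := by
  apply +allowSynthFailures @IsReduced.of_openCover
    (𝒰 := Scheme.Pullback.openCoverOfLeftRight X.affineOpenCover.openCover S.affineOpenCover.openCover f g)
  intro a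
  suffices key : ∀ (A B : CommRingCat.{u}) [_root_.IsReduced B] (i : Spec A ⟶ X) [IsOpenImmersion i] (p : Spec B ⟶ Spec (CommRingCat.of k)),
      AlgebraicGeometry.IsReduced (pullback (i ≫ f) p) by
    haveI : AlgebraicGeometry.IsReduced (Spec (S.affineOpenCover.X a.2)) :=
      isReduced_of_isOpenImmersion (S.affineOpenCover.f a.2)
    exact @key (X.affineOpenCover.X a.1) _ ((affine_isReduced_iff _).1 inferInstance) (X.affineOpenCover.f a.1)
      (X.affineOpenCover.map_prop a.1) _
  intro A B _ i _ p
  obtain ⟨ψ, rfl⟩ := Spec.map_surjective p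
  let φ := Spec.preimage (i ≫ f)
  let _ : Algebra k A := φ.hom.toAlgebra
  let _ : Algebra k B := ψ.hom.toAlgebra
  have hi : i ≫ f = Spec.map (CommRingCat.ofHom (algebraMap k A)) := (Spec.map_preimage _).symm
  haveI := isGeometricallyReduced_of_open f i hi
  haveI h : _root_.IsReduced ((B : Type u) ⊗[k] A) := GrothLib.GrpSchField.isReduced_tensorProduct
  haveI : _root_.IsReduced (CommRingCat.of ((A : Type u) ⊗[k] B)) :=
    isReduced_of_injective (Algebra.TensorProduct.comm k A B) (Algebra.TensorProduct.comm k A B).injective
  rw [hi]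
  exact isReduced_of_isOpenImmersion (pullbackSpecIso k A B).hom

theorem isReduced_bc_of_isGeometricallyReduced (k' : Type u) [Field k'] [Algebra k k']
    [Algebra.IsGeometricallyReduced k k'] [AlgebraicGeometry.IsReduced X] :
    AlgebraicGeometry.IsReduced (pullback f (Spec.map (CommRingCat.ofHom (algebraMap k k')))) := by
  apply +allowSynthFailures @IsReduced.of_openCover
    (𝒰 := Scheme.Pullback.openCoverOfLeft X.affineOpenCover.openCover f (Spec.map (CommRingCat.ofHom (algebraMap k k'))))
  intro a
  suffices key : ∀ (A : CommRingCat.{u}) [_root_.IsReduced A] (p : Spec A ⟶ Spec (CommRingCat.of k)),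
      AlgebraicGeometry.IsReduced (pullback p (Spec.map (CommRingCat.ofHom (algebraMap k k')))) by
    haveI : AlgebraicGeometry.IsReduced (Spec (X.affineOpenCover.X a)) :=
      isReduced_of_isOpenImmersion (X.affineOpenCover.f a)
    exact @key (X.affineOpenCover.X a) ((affine_isReduced_iff _).1 inferInstance) _
  intro A _ p
  obtain ⟨φ, rfl⟩ := Spec.map_surjective p
  let _ : Algebra k A := φ.hom.toAlgebra
  haveI : _root_.IsReduced (CommRingCat.of ((A : Type u) ⊗[k] k')) := GrothLib.GrpSchField.isReduced_tensorProduct
  exact isReduced_of_isOpenImmersion (pullbackSpecIso k A k').hom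

theorem geometricallyReduced_comp {Y : Scheme.{u}} (g : Y ⟶ Spec (CommRingCat.of k)) [GeometricallyReduced f]
    [GeometricallyReduced g] : GeometricallyReduced (pullback.fst f g ≫ f) := by
  rw [geometricallyReduced_iff, geometrically_iff_of_commRing_of_isClosedUnderIsomorphisms]
  intro K _ _
  let σ := Spec.map (CommRingCat.ofHom (algebraMap k K))
  haveI : AlgebraicGeometry.IsReduced (pullback f σ) :=
    ‹GeometricallyReduced f›.geometrically_isReduced _ _ _ (.of_hasPullback f σ)
  haveI := isReduced_pullback_of_geometricallyReduced g (pullback.fst f σ ≫ f)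
  exact isReduced_of_isOpenImmersion ((pullbackRightPullbackFstIso f σ (pullback.fst f g)).symm ≪≫
    pullbackSymmetry _ _ ≪≫ pullbackRightPullbackFstIso f g (pullback.fst f σ) ≪≫ pullbackSymmetry _ _).hom

theorem geometricallyReduced_of_perfect (Ω : Type u) [Field Ω] [Algebra k Ω] [PerfectField Ω]
    [AlgebraicGeometry.IsReduced (FBase.bc f Ω)] : GeometricallyReduced f := by
  have h : GeometricallyReduced (FBase.bcStr f Ω) := by
    rw [GrothLib.CurveLocus.geometricallyReduced_iff]
    intro L _ _ t X' i q hsq
    have := GrothLib.GrpSchField.isReduced_pullback (FBase.bcStr f Ω) t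
    exact isReduced_of_isOpenImmersion hsq.isoPullback.hom
  rw [geometricallyReduced_iff] at h ⊢
  exact (geometrically_bc_iff f _ (fun {Z' _} π _ _ h => have : AlgebraicGeometry.IsReduced Z' := h;
    GrothLib.CurveLocus.isReduced_of_flat_of_surjective π) Ω).2 h

end GrothLib.FBase7
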