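import Groth.Agent.Lib.FBase7.Points
import Groth.Prelude.Def_FDesc

/-!
# A common extension dominating two points over the same point
-/

set_option autoImplicit false
set_option linter.style.haveILetI false
universe u

open CategoryTheory AlgebraicGeometry

namespace GrothLib.FBase7

/-- Two points of two base changes over one point lift, by flat maps, to a third base change. -/
theorem exists_common_point {k K L : Type u} [Field k] [Field K] [Field L] [Algebra k K] [Algebra k L]
    {X : Scheme.{u}} (f : X ⟶ Spec (CommRingCat.of k)) (x' : ↥(FBase.bc f K)) (z : ↥(FBase.bc f L))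
    (hz : (FBase.bcπ f L) z = (FBase.bcπ f K) x') :
    ∃ (M : Type u) (_ : Field M) (_ : Algebra K M) (q : FBase.bc (FBase.bcStr f K) M ⟶ FBase.bc f L)
      (w : ↥(FBase.bc (FBase.bcStr f K) M)), Flat q ∧ q w = z ∧ FBase.bcπ (FBase.bcStr f K) M w = x' := by
  let σ := Spec.map (CommRingCat.ofHom (algebraMap k K))
  obtain ⟨w₀, hw₁, hw₂⟩ := Scheme.Pullback.exists_preimage_pullback (f := FBase.bcπ f L) (g := FBase.bcπ f K) z x' hz
  let P := CategoryTheory.Limits.pullback (FBase.bcπ f L) (FBase.bcπ f K)
  let M := P.residueField w₀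
  let a : Spec M ⟶ P := P.fromSpecResidueField w₀
  let φL := Spec.preimage (a ≫ CategoryTheory.Limits.pullback.fst (FBase.bcπ f L) (FBase.bcπ f K) ≫ FBase.bcStr f L)
  let φK := Spec.preimage (a ≫ CategoryTheory.Limits.pullback.snd (FBase.bcπ f L) (FBase.bcπ f K) ≫ FBase.bcStr f K)
  let _ : Algebra L M := φL.hom.toAlgebra
  let _ : Algebra K M := φK.hom.toAlgebra
  let τL := Spec.map (CommRingCat.ofHom (algebraMap L M))
  let τK := Spec.map (CommRingCat.ofHom (algebraMap K M))
  have hL : τL = a ≫ CategoryTheory.Limits.pullback.fst _ _ ≫ FBase.bcStr f L := Spec.map_preimage _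
  have hK : τK = a ≫ CategoryTheory.Limits.pullback.snd _ _ ≫ FBase.bcStr f K := Spec.map_preimage _
  have hLK : τL ≫ Spec.map (CommRingCat.ofHom (algebraMap k L)) = τK ≫ σ := by
    simp only [hL, hK, σ, FBase.bcStr, FBase.bcπ, Category.assoc, ← CategoryTheory.Limits.pullback.condition]
    erw [← CategoryTheory.Limits.pullback.condition, ← CategoryTheory.Limits.pullback.condition, CategoryTheory.Limits.pullback.condition_assoc]
    rfl
  let sK : Spec M ⟶ FBase.bc (FBase.bcStr f K) M :=
    CategoryTheory.Limits.pullback.lift (a ≫ CategoryTheory.Limits.pullback.snd _ _) (𝟙 _) (by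
      rw [Category.id_comp]; exact (Category.assoc _ _ _).trans hK.symm)
  let q : FBase.bc (FBase.bcStr f K) M ⟶ FBase.bc f L :=
    CategoryTheory.Limits.pullback.lift (FBase.bcπ (FBase.bcStr f K) M ≫ FBase.bcπ f K)
      (FBase.bcStr (FBase.bcStr f K) M ≫ τL) (by
        simp only [FBase.bcπ, FBase.bcStr, Category.assoc, hLK]
        erw [CategoryTheory.Limits.pullback.condition, CategoryTheory.Limits.pullback.condition_assoc]
        rfl)
  have hq : IsPullback q (FBase.bcStr (FBase.bcStr f K) M) (FBase.bcStr f L) τL := by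
    refine IsPullback.of_right ?_ (CategoryTheory.Limits.pullback.lift_snd _ _ _) (IsPullback.of_hasPullback _ _)
    rw [show q ≫ CategoryTheory.Limits.pullback.fst _ _ = _ from CategoryTheory.Limits.pullback.lift_fst _ _ _, hLK]
    exact (IsPullback.of_hasPullback (FBase.bcStr f K) τK).paste_horiz (IsPullback.of_hasPullback f σ)
  have : Flat q := MorphismProperty.of_isPullback hq.flip inferInstance
  let pt := IsLocalRing.closedPoint M
  refine ⟨M, inferInstance, inferInstance, q, sK pt, ‹Flat q›, ?_, ?_⟩
  · rw [← Scheme.Hom.comp_apply, show sK ≫ q = a ≫ CategoryTheory.Limits.pullback.fst _ _ from ?_,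
      Scheme.Hom.comp_apply, show a pt = w₀ from Scheme.fromSpecResidueField_apply _ _, hw₁]
    apply CategoryTheory.Limits.pullback.hom_ext
    · refine (Category.assoc _ _ _).trans ?_
      erw [CategoryTheory.Limits.pullback.lift_fst, CategoryTheory.Limits.pullback.lift_fst_assoc]
      exact (congrArg (a ≫ ·) CategoryTheory.Limits.pullback.condition.symm).trans (Category.assoc _ _ _).symm
    · refine (Category.assoc _ _ _).trans ?_
      erw [CategoryTheory.Limits.pullback.lift_snd, CategoryTheory.Limits.pullback.lift_snd_assoc, Category.id_comp]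
      exact hL.trans (Category.assoc _ _ _).symm
  · rw [← Scheme.Hom.comp_apply, show sK ≫ FBase.bcπ (FBase.bcStr f K) M = a ≫ CategoryTheory.Limits.pullback.snd _ _ from
      CategoryTheory.Limits.pullback.lift_fst _ _ _, Scheme.Hom.comp_apply,
      show a pt = w₀ from Scheme.fromSpecResidueField_apply _ _, hw₂]

theorem isGeomReducedAt_of_perfect {k Ω : Type u} [Field k] [Field Ω] [Algebra k Ω] [PerfectField Ω]
    {X : Scheme.{u}} (f : X ⟶ Spec (CommRingCat.of k)) (x : X) (x' : ↥(FBase.bc f Ω))
    (hx' : (FBase.bcπ f Ω).base x' = x) (h : _root_.IsReduced ((FBase.bc f Ω).presheaf.stalk x')) :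
    FBase.IsGeomReducedAt f x := by
  intro L _ _ z hz
  obtain ⟨M, _, _, q, w, hq, hqw, hw⟩ := exists_common_point f x' z (hz.trans hx'.symm)
  refine isReduced_stalk_of_flat q w hqw ?_
  subst hw
  exact isReduced_stalk_pullback (FBase.bcStr f Ω) _ w h

end GrothLib.FBase7
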