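import Groth.Agent.Lib.FBase7.Dim
import Mathlib.AlgebraicGeometry.Morphisms.Flat

/-!
# Irreducible components of products over a field
-/

set_option autoImplicit false
set_option linter.style.haveILetI false
universe u

open CategoryTheory CategoryTheory.Limits AlgebraicGeometry TopologicalSpace

namespace GrothLib.FBase7

theorem apply_eq_genericPoint_of_maximal {W V : Scheme.{u}} [IrreducibleSpace ↥V] (q : W ⟶ V) [Flat q] {t : W}
    (ht : ∀ t', t' ⤳ t → t' = t) : q t = genericPoint V := by
  obtain ⟨t', ht', hq⟩ := (Flat.generalizingMap q) (genericPoint_specializes (q t))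
  rw [ht t' ht'] at hq
  exact hq

theorem mem_irreducibleComponents_pullback_iff {k : Type u} [Field k] {X Y : Scheme.{u}}
    (f : X ⟶ Spec (CommRingCat.of k)) (g : Y ⟶ Spec (CommRingCat.of k)) (W : Set ↥(pullback f g)) :
    W ∈ irreducibleComponents ↥(pullback f g) ↔
      ∃ X' ∈ irreducibleComponents ↥X, ∃ Y' ∈ irreducibleComponents ↥Y,
        Maximal (fun V : Set ↥(pullback f g) => IsIrreducible V ∧ V ⊆ ⇑(pullback.fst f g) ⁻¹' X' ∩ ⇑(pullback.snd f g) ⁻¹' Y') W := by
  constructor
  · intro hW
    obtain ⟨X', hX', hWX⟩ := exists_mem_irreducibleComponents_subset_of_isIrreducible _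
      (hW.1.image (pullback.fst f g) (pullback.fst f g).continuous.continuousOn)
    obtain ⟨Y', hY', hWY⟩ := exists_mem_irreducibleComponents_subset_of_isIrreducible _
      (hW.1.image (pullback.snd f g) (pullback.snd f g).continuous.continuousOn)
    exact ⟨X', hX', Y', hY', ⟨hW.1, fun w hw => ⟨hWX ⟨w, hw, rfl⟩, hWY ⟨w, hw, rfl⟩⟩⟩, fun V hV hle => hW.2 hV.1 hle⟩
  · rintro ⟨X', hX', Y', hY', ⟨hW, hWS⟩, hmax⟩
    obtain ⟨A, a, _, _, ha⟩ := exists_integral_subscheme (isClosed_of_mem_irreducibleComponents _ hX') hX'.1
    obtain ⟨B, b, _, _, hb⟩ := exists_integral_subscheme (isClosed_of_mem_irreducibleComponents _ hY') hY'.1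
    let S := ⇑(pullback.fst f g) ⁻¹' X' ∩ ⇑(pullback.snd f g) ⁻¹' Y'
    have hSc : IsClosed S := ((isClosed_of_mem_irreducibleComponents _ hX').preimage (pullback.fst f g).continuous).inter
      ((isClosed_of_mem_irreducibleComponents _ hY').preimage (pullback.snd f g).continuous)
    have hWc : IsClosed W := by
      have := hmax ⟨hW.closure, closure_minimal hWS hSc⟩ subset_closure
      exact closure_subset_iff_isClosed.1 this
    obtain ⟨v, hv⟩ := QuasiSober.sober hW hWc
    have hgen : ∀ v', v' ⤳ v → v' ∈ S → v' = v := by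
      intro v' h hS
      have h1 := hmax ⟨isIrreducible_singleton.closure (s := ({v'} : Set ↥(pullback f g))),
        closure_minimal (Set.singleton_subset_iff.2 hS) hSc⟩ (by
          rw [← hv.def]; exact h.closure_subset)
      exact (h.antisymm (hv.specializes (h1 (subset_closure rfl)))).eq
    let j : pullback (a ≫ f) (b ≫ g) ⟶ pullback f g :=
      pullback.map _ _ _ _ a b (𝟙 _) (by rw [Category.comp_id]) (by rw [Category.comp_id])
    have hr : Set.range j = S := by rw [Scheme.Pullback.range_map, ha, hb]
    obtain ⟨p, hp⟩ := hr.ge (hWS hv.mem)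
    have hpmax : ∀ p', p' ⤳ p → p' = p := fun p' h => by
      have h1 := hgen (j p') (hp ▸ h.map j.continuous) (hr.le ⟨p', rfl⟩)
      haveI := isClosedImmersion_map f g a b
      exact j.isEmbedding.injective (h1.trans hp.symm)
    have hfst : pullback.fst f g v = a (genericPoint A) := by
      rw [← hp, ← Scheme.Hom.comp_apply, show j ≫ pullback.fst f g = pullback.fst (a ≫ f) (b ≫ g) ≫ a from pullback.lift_fst _ _ _,
        Scheme.Hom.comp_apply, apply_eq_genericPoint_of_maximal (pullback.fst (a ≫ f) (b ≫ g)) hpmax]
    have hsnd : pullback.snd f g v = b (genericPoint B) := by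
      rw [← hp, ← Scheme.Hom.comp_apply, show j ≫ pullback.snd f g = pullback.snd (a ≫ f) (b ≫ g) ≫ b from pullback.lift_snd _ _ _,
        Scheme.Hom.comp_apply, apply_eq_genericPoint_of_maximal (pullback.snd (a ≫ f) (b ≫ g)) hpmax]
    have hga : IsGenericPoint (a (genericPoint A)) X' := by
      have := (genericPoint_spec A).image a.continuous
      rwa [Set.image_univ, ha, (isClosed_of_mem_irreducibleComponents _ hX').closure_eq] at this
    have hgb : IsGenericPoint (b (genericPoint B)) Y' := by
      have := (genericPoint_spec B).image b.continuous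
      rwa [Set.image_univ, hb, (isClosed_of_mem_irreducibleComponents _ hY').closure_eq] at this
    rw [← hv.def]
    refine BaseChange.closure_singleton_mem_irreducibleComponents fun v' h => hgen v' h ?_
    constructor
    · show pullback.fst f g v' ∈ X'
      rw [BaseChange.eq_of_specializes_generic hX' hga (t' := pullback.fst f g v') (hfst ▸ h.map (pullback.fst f g).continuous)]
      exact hga.mem
    · show pullback.snd f g v' ∈ Y'
      rw [BaseChange.eq_of_specializes_generic hY' hgb (t' := pullback.snd f g v') (hsnd ▸ h.map (pullback.snd f g).continuous)]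
      exact hgb.mem

end GrothLib.FBase7
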