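import Groth.Agent.Lib.BaseChange.AlgClosedIn
import Groth.Agent.Lib.FBase7.Conn
import Mathlib.FieldTheory.SeparableClosure
import Mathlib.FieldTheory.IsAlgClosed.AlgebraicClosure

/-!
# Points with a separably closed base field inside the residue field
-/

set_option autoImplicit false
set_option linter.style.haveILetI false
universe u

open CategoryTheory CategoryTheory.Limits AlgebraicGeometry Polynomial

namespace GrothLib.FBase7

open GrothLib.BaseChange

variable (k : Type u) [Field k] (X : Scheme.{u}) [X.Over (Spec (CommRingCat.of k))]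

/-- If `k` is separably closed in `κ(x)`, the fibre of `X_E` over `x` is one point for finite
separable `E/k`. -/
theorem eq_of_sepClosedIn {x : X}
    (hx : ∀ a : X.residueField x, letI := (Curv2.resMap k X x).toAlgebra; IsSeparable k a → a ∈ (Curv2.resMap k X x).range)
    (E : Type u) [Field E] [Algebra k E] [FiniteDimensional k E] [Algebra.IsSeparable k E]
    (y₁ y₂ : Curv2.bc k X E) (h₁ : Curv2.bcFst k X E y₁ = x) (h₂ : Curv2.bcFst k X E y₂ = x) :
    y₁ = y₂ := by
  let κ := X.residueField x
  let _ : Algebra k κ := (Curv2.resMap k X x).toAlgebra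
  let pb := Field.powerBasisOfFiniteOfSeparable k E
  let p := minpoly k pb.gen
  have hp : p.Monic := minpoly.monic (Algebra.IsIntegral.isIntegral _)
  let q := p.map (algebraMap k κ)
  have hqm : q.Monic := hp.map _
  have hirr : Irreducible q := by
    have hnu : ¬ IsUnit q := fun h => by
      have := natDegree_eq_zero_of_isUnit h
      rw [hp.natDegree_map] at this
      exact (minpoly.natDegree_pos (Algebra.IsIntegral.isIntegral pb.gen)).ne' this
    obtain ⟨g, hgirr, hgdvd⟩ := WfDvdMonoid.exists_irreducible_factor hnu hqm.ne_zero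
    let g' := g * C g.leadingCoeff⁻¹
    have hg'm : g'.Monic := monic_mul_leadingCoeff_inv hgirr.ne_zero
    have hg'a : Associated g g' :=
      ⟨(isUnit_C.mpr (isUnit_iff_ne_zero.mpr (inv_ne_zero (leadingCoeff_ne_zero.mpr hgirr.ne_zero)))).unit,
        rfl⟩
    have hg'dvd : g' ∣ q := hg'a.dvd_iff_dvd_left.mp hgdvd
    have hg'irr : Irreducible g' := hg'a.irreducible hgirr
    have hlift : g' ∈ lifts (algebraMap k κ) := by
      rw [lifts_iff_coeff_lifts]
      intro n
      refine hx _ ?_
      let L := AlgebraicClosure κ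
      let S := separableClosure k L
      have hroots : g'.map (algebraMap κ L) ∈ lifts (algebraMap S L) := by
        rw [(IsAlgClosed.splits (g'.map (algebraMap κ L))).eq_prod_roots_of_monic (hg'm.map _)]
        refine multiset_prod_mem (S := lifts (algebraMap S L)) _ fun r hr => ?_
        obtain ⟨r, hr', rfl⟩ := Multiset.mem_map.1 hr
        refine (mem_lifts _).2 ⟨Polynomial.X - C (⟨r, ?_⟩ : S), by rw [Polynomial.map_sub, map_X, map_C]; rfl⟩
        rw [mem_separableClosure_iff]
        refine (Algebra.IsSeparable.isSeparable k pb.gen).of_dvd (minpoly.dvd k r ?_)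
        have h0 : IsRoot (q.map (algebraMap κ L)) r :=
          IsRoot.dvd ((mem_roots'.1 hr').2) (Polynomial.map_dvd (algebraMap κ L) hg'dvd)
        rwa [show q = p.map (algebraMap k κ) from rfl, Polynomial.map_map, ← IsScalarTower.algebraMap_eq,
          IsRoot, Polynomial.eval_map, ← aeval_def] at h0
      obtain ⟨c, hc⟩ := (lifts_iff_coeff_lifts _).1 hroots n
      rw [coeff_map] at hc
      have hs : IsSeparable k (algebraMap κ L (g'.coeff n)) := hc ▸ mem_separableClosure_iff.1 c.2
      exact IsSeparable.of_algHom (IsScalarTower.toAlgHom k κ L) hs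
    obtain ⟨g₀, hg₀, -, hg₀m⟩ := lifts_and_degree_eq_and_monic hlift hg'm
    have hdvd : g₀ ∣ p := (Polynomial.map_dvd_map' (algebraMap k κ)).mp (hg₀.symm ▸ hg'dvd)
    have : g₀ = p := by
      refine eq_of_monic_of_associated hg₀m hp ?_
      refine (Monic.irreducible_of_irreducible_map (algebraMap k κ) g₀ hg₀m (hg₀.symm ▸ hg'irr)).associated_of_dvd
        (minpoly.irreducible (Algebra.IsIntegral.isIntegral _)) hdvd
    rw [show q = g' by rw [← hg₀, this]]
    exact hg'irr
  have : Fact (Irreducible q) := ⟨hirr⟩
  let F := AdjoinRoot q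
  let _ : Algebra k F := inferInstance
  have hroot : aeval (AdjoinRoot.root q) p = 0 := by
    rw [← aeval_map_algebraMap κ]
    exact AdjoinRoot.eval₂_root q
  let eF : E →ₐ[k] F := pb.lift (AdjoinRoot.root q) hroot
  let M : Spec (CommRingCat.of F) ⟶ Curv2.bc k X E :=
    pullback.lift (Spec.map (CommRingCat.ofHom (algebraMap κ F)) ≫ X.fromSpecResidueField x)
      (Spec.map (CommRingCat.ofHom (eF : E →+* F))) (by
        rw [Category.assoc, fromSpecResidueField_over, ← Spec.map_comp, ← Spec.map_comp]
        congr 1
        ext c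
        exact (eF.commutes c).symm)
  have key : ∀ y : Curv2.bc k X E, Curv2.bcFst k X E y = x →
      y = M (default : Spec (CommRingCat.of F)) := by
    intro y hy
    let Ω := (Curv2.bc k X E).residueField y
    let Q : Spec (CommRingCat.of Ω) ⟶ Curv2.bc k X E := (Curv2.bc k X E).fromSpecResidueField y
    have hQ : Q (default : Spec (CommRingCat.of Ω)) = y := Scheme.fromSpecResidueField_apply _ _
    obtain ⟨ι, hι⟩ := exists_eq_fromSpecResidueField X (Q ≫ Curv2.bcFst k X E) (x := x)
      (by rw [Scheme.Hom.comp_apply, hQ, hy])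
    let φ := Spec.preimage (Q ≫ Curv2.bcSnd k X E)
    have hc : CommRingCat.ofHom (algebraMap k E) ≫ φ =
        CommRingCat.ofHom (Curv2.resMap k X x) ≫ ι := by
      apply Spec.map_injective
      rw [Spec.map_comp, Spec.map_comp, Spec.map_preimage, Category.assoc, ← pullback.condition,
        ← fromSpecResidueField_over, ← Category.assoc (Spec.map ι), ← hι, Category.assoc]
    let _ : Algebra κ Ω := ι.hom.toAlgebra
    let _ : Algebra k Ω := (ι.hom.comp (Curv2.resMap k X x)).toAlgebra
    have : IsScalarTower k κ Ω := IsScalarTower.of_algebraMap_eq fun _ => rfl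
    let φ' : E →ₐ[k] Ω :=
      { toRingHom := φ.hom
        commutes' := fun c => congrArg (fun e => e.hom c) hc }
    have hz : q.eval₂ (algebraMap κ Ω) (φ' pb.gen) = 0 := by
      show aeval (φ' pb.gen) q = 0
      rw [aeval_map_algebraMap, aeval_algHom_apply, minpoly.aeval, map_zero]
    let a : F →+* Ω := AdjoinRoot.lift (algebraMap κ Ω) (φ' pb.gen) hz
    have ha : Q = Spec.map (CommRingCat.ofHom a) ≫ M := by
      apply pullback.hom_ext
      · rw [Category.assoc, pullback.lift_fst, ← Spec.map_comp_assoc]
        refine hι.trans ?_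
        congr 2
        ext c
        exact (AdjoinRoot.lift_of hz).symm
      · rw [Category.assoc, pullback.lift_snd, ← Spec.map_comp]
        refine (Spec.map_preimage _).symm.trans ?_
        congr 1
        let a' : F →ₐ[k] Ω :=
          { toRingHom := a
            commutes' := fun c => AdjoinRoot.lift_of hz }
        have he : φ' = a'.comp eF := pb.algHom_ext (by
          show φ' pb.gen = a (eF pb.gen)
          rw [pb.lift_gen]
          exact (AdjoinRoot.lift_root hz).symm)
        ext e
        exact AlgHom.congr_fun he e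
    rw [← hQ, ha, Scheme.Hom.comp_apply]
    exact congrArg M (Subsingleton.elim (α := Spec (CommRingCat.of F)) _ _)
  rw [key y₁ h₁, key y₂ h₂]

/-- The fibre over such a point in `X_L` is a single point, `L/k` separable algebraic. -/
theorem eq_of_sepClosedIn_separable {x : X}
    (hx : ∀ a : X.residueField x, letI := (Curv2.resMap k X x).toAlgebra; IsSeparable k a → a ∈ (Curv2.resMap k X x).range)
    (L : Type u) [Field L] [Algebra k L] [Algebra.IsSeparable k L]
    (z₁ z₂ : Curv2.bc k X L) (h₁ : Curv2.bcFst k X L z₁ = x) (h₂ : Curv2.bcFst k X L z₂ = x) :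
    z₁ = z₂ := by
  refine eq_of_bcMap_eq k X L z₁ z₂ (h₁.trans h₂.symm) fun E hE => ?_
  have := hE
  refine eq_of_sepClosedIn k X hx E _ _ ?_ ?_
  · rw [← Scheme.Hom.comp_apply, bcMap_fst, h₁]
  · rw [← Scheme.Hom.comp_apply, bcMap_fst, h₂]

theorem resMap_eq {x : X} {φ : k →+* X.residueField x}
    (hφ : Spec.map (CommRingCat.ofHom φ) = X.fromSpecResidueField x ≫ (X ↘ Spec (CommRingCat.of k))) :
    φ = Curv2.resMap k X x := by
  rw [fromSpecResidueField_over] at hφ
  exact congrArg CommRingCat.Hom.hom (Spec.map_injective hφ)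

theorem connectedSpace_of_sepClosedIn [ConnectedSpace X] {x : X}
    (hx : ∀ a : X.residueField x, letI := (Curv2.resMap k X x).toAlgebra; IsSeparable k a → a ∈ (Curv2.resMap k X x).range)
    (L : Type u) [Field L] [Algebra k L] [Algebra.IsSeparable k L] : ConnectedSpace (Curv2.bc k X L) := by
  obtain ⟨z₀, hz₀⟩ := (Curv2.bcFst k X L).surjective x
  refine connectedSpace_iff_connectedComponent.mpr ⟨z₀, Set.eq_univ_of_forall fun z => ?_⟩
  have : x ∈ Curv2.bcFst k X L '' connectedComponent z := by
    rw [image_connectedComponent, PreconnectedSpace.connectedComponent_eq_univ]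
    trivial
  obtain ⟨w, hw, hwx⟩ := this
  rw [← eq_of_sepClosedIn_separable k X hx L w z₀ hwx hz₀, ← connectedComponent_eq hw]
  exact mem_connectedComponent

theorem geometricallyConnected_of_sepClosure_connected
    (h : ConnectedSpace (Curv2.bc k X (SeparableClosure k))) :
    GeometricallyConnected (X ↘ Spec (CommRingCat.of k)) :=
  geometricallyConnected_of_connected_bc k X (SeparableClosure k)

end GrothLib.FBase7
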