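import Groth.Agent.Lib.FBase7.Conn
import Groth.Agent.Lib.FFDesc.Basic
import Groth.Agent.Lib.GrpSchField.ReducedProd
import Groth.Agent.Lib.GrpSchField.Components
import Mathlib.AlgebraicGeometry.FunctionField

/-!
# Local rings of base changes to field extensions
-/

set_option autoImplicit false
set_option linter.style.haveILetI false
universe u

open CategoryTheory CategoryTheory.Limits AlgebraicGeometry

namespace GrothLib.FBase7

theorem stalkMap_injective_of_flat {W V : Scheme.{u}} (q : W ⟶ V) [Flat q] (w : W) :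
    Function.Injective (q.stalkMap w).hom := by
  algebraize [(q.stalkMap w).hom]
  have : Module.FaithfullyFlat (V.presheaf.stalk (q w)) (W.presheaf.stalk w) :=
    @Module.FaithfullyFlat.of_flat_of_isLocalHom _ _ _ _ _ _ _ (Flat.stalkMap q w) (q.toLRSHom.prop w)
  exact (‹RingHom.FaithfullyFlat _›).injective

theorem isReduced_stalk_of_flat {W V : Scheme.{u}} (q : W ⟶ V) [Flat q] (w : W) {v : V} (hv : q w = v)
    (h : _root_.IsReduced (W.presheaf.stalk w)) : _root_.IsReduced (V.presheaf.stalk v) := by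
  subst hv
  exact isReduced_of_injective _ (stalkMap_injective_of_flat q w)

theorem isDomain_stalk_of_flat {W V : Scheme.{u}} (q : W ⟶ V) [Flat q] (w : W) {v : V} (hv : q w = v)
    (h : IsDomain (W.presheaf.stalk w)) : IsDomain (V.presheaf.stalk v) := by
  subst hv
  exact (stalkMap_injective_of_flat q w).isDomain (q.stalkMap w).hom

variable {Ω : Type u} [Field Ω] {Y : Scheme.{u}} (g : Y ⟶ Spec (CommRingCat.of Ω))
  {T : Scheme.{u}} (σ : T ⟶ Spec (CommRingCat.of Ω))

theorem exists_flat_of_stalk (z : ↥(pullback g σ)) :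
    ∃ (q : pullback (Y.fromSpecStalk ((pullback.fst g σ) z) ≫ g) σ ⟶ pullback g σ) (w : _), Flat q ∧ q w = z := by
  let y := (pullback.fst g σ) z
  let i := Y.fromSpecStalk y
  have hsq := (IsPullback.of_hasPullback i (pullback.fst g σ)).flip.paste_horiz (IsPullback.of_hasPullback g σ).flip
  haveI : Flat i := GrothLib.FFDesc.flat_fromSpecStalk' Y y
  let q : pullback (i ≫ g) σ ⟶ pullback g σ := hsq.flip.isoPullback.inv ≫ pullback.snd i (pullback.fst g σ)
  obtain ⟨w', hw'₁, hw'₂⟩ := Scheme.Pullback.exists_preimage_pullback (f := i) (g := pullback.fst g σ)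
    (IsLocalRing.closedPoint (Y.presheaf.stalk y)) z (Y.fromSpecStalk_closedPoint)
  refine ⟨q, hsq.flip.isoPullback.hom w', inferInstance, ?_⟩
  rw [← Scheme.Hom.comp_apply, Iso.hom_inv_id_assoc, hw'₂]

theorem isReduced_stalk_pullback [PerfectField Ω] [AlgebraicGeometry.IsReduced T] (z : ↥(pullback g σ))
    (h : _root_.IsReduced (Y.presheaf.stalk ((pullback.fst g σ) z))) :
    _root_.IsReduced ((pullback g σ).presheaf.stalk z) := by
  obtain ⟨q, w, hq, hw⟩ := exists_flat_of_stalk g σ z
  haveI := GrothLib.GrpSchField.isReduced_pullback (Y.fromSpecStalk ((pullback.fst g σ) z) ≫ g) σ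
  exact isReduced_stalk_of_flat q w hw inferInstance

theorem isDomain_stalk_pullback [IsAlgClosed Ω] [IsIntegral T] (z : ↥(pullback g σ))
    (h : IsDomain (Y.presheaf.stalk ((pullback.fst g σ) z))) :
    IsDomain ((pullback g σ).presheaf.stalk z) := by
  obtain ⟨q, w, hq, hw⟩ := exists_flat_of_stalk g σ z
  haveI := GrothLib.GrpSchField.isReduced_pullback (Y.fromSpecStalk ((pullback.fst g σ) z) ≫ g) σ
  haveI := GrothLib.GrpSchField.irreducibleSpace_pullback (Y.fromSpecStalk ((pullback.fst g σ) z) ≫ g) σ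
  haveI := isIntegral_of_irreducibleSpace_of_isReduced (pullback (Y.fromSpecStalk ((pullback.fst g σ) z) ≫ g) σ)
  exact isDomain_stalk_of_flat q w hw inferInstance

end GrothLib.FBase7
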