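import Groth.Agent.Lib.FBase7.SepClosedIn
import Groth.Agent.Lib.FibreBC.Basic
import Groth.Agent.Lib.BaseChange.Irred
import Groth.Agent.Lib.LocNoeth.Scheme
import Groth.Agent.Lib.Japanese.IntegralSpec
import Mathlib.FieldTheory.PurelyInseparable.Basic

/-!
# Geometric irreducibility
-/

set_option autoImplicit false
set_option linter.style.haveILetI false
universe u

open CategoryTheory CategoryTheory.Limits AlgebraicGeometry TopologicalSpace

namespace GrothLib.FBase7

theorem isIrreducible_of_maximal_subset {Y : Scheme.{u}} [Nonempty ↥Y] {S : Set Y} (hS : IsPreirreducible S)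
    (h : ∀ t : Y, (∀ t', t' ⤳ t → t' = t) → t ∈ S) : IrreducibleSpace Y := by
  have hd : closure S = Set.univ := Set.eq_univ_of_forall fun z => by
    obtain ⟨T, hT, hsub⟩ := exists_mem_irreducibleComponents_subset_of_isIrreducible _ (isIrreducible_singleton (x := z))
    obtain ⟨t, ht⟩ := BaseChange.exists_generic hT
    exact (ht.specializes (hsub rfl)).mem_closed isClosed_closure
      (subset_closure (h t fun t' h' => BaseChange.eq_of_specializes_generic hT ht h'))
  have := hS.closure
  rw [hd] at this
  rw [irreducibleSpace_def]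
  exact ⟨Set.univ_nonempty, this⟩

theorem geometricallyIrreducible_of_generic_fibre {k : Type u} [Field k] {X C : Scheme.{u}} (f : X ⟶ C)
    (c : C ⟶ Spec (CommRingCat.of k)) [Nonempty ↥X] [IrreducibleSpace ↥C] [GeometricallyIrreducible c] [Flat f]
    [GeometricallyIrreducible (f.fiberToSpecResidueField (genericPoint C))] :
    GeometricallyIrreducible (f ≫ c) := by
  rw [geometricallyIrreducible_iff, geometrically_iff_of_commRing_of_isClosedUnderIsomorphisms]
  intro K _ _
  let σ := Spec.map (CommRingCat.ofHom (algebraMap k K))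
  let π := pullback.fst c σ
  let q := pullback.snd f π
  have : IrreducibleSpace ↥(pullback c σ) :=
    GeometricallyIrreducible.geometrically_irreducibleSpace _ _ _ (IsPullback.of_hasPullback c σ)
  have : Nonempty ↥(pullback f π) := by
    obtain ⟨x⟩ := ‹Nonempty ↥X›
    haveI : Surjective π := MorphismProperty.pullback_fst _ _ (surjective_specMap _)
    obtain ⟨y, hy⟩ := π.surjective (f x)
    obtain ⟨z, -, -⟩ := Scheme.Pullback.exists_preimage_pullback (f := f) (g := π) x y hy.symm
    exact ⟨z⟩
  let η := genericPoint ↥(pullback c σ)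
  have hη : π η = genericPoint C := by
    obtain ⟨η', hη', hπ⟩ := (Flat.generalizingMap π) (genericPoint_specializes (π η))
    rw [← hπ, hη'.antisymm (genericPoint_specializes η') |>.eq]
  have hfib : GeometricallyIrreducible (q.fiberToSpecResidueField η) := by
    refine (FibreBC.geometricallyIrreducible_fiber_iff (IsPullback.of_hasPullback f π) η).2 ?_
    rw [hη]
    infer_instance
  have hirr : IsPreirreducible (q ⁻¹' {η}) := by
    haveI : IrreducibleSpace ↥(q.fiber η) :=
      self_of_isIntegral_of_geometrically (f := q.fiberToSpecResidueField η) hfib.geometrically_irreducibleSpace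
    rw [← q.range_fiberι, ← Set.image_univ]
    exact ((IrreducibleSpace.isIrreducible_univ _).image _ (q.fiberι η).continuous.continuousOn).2
  have : IrreducibleSpace ↥(pullback f π) := isIrreducible_of_maximal_subset hirr fun t ht => by
    obtain ⟨t', ht', hq⟩ := (Flat.generalizingMap q) (genericPoint_specializes (q t))
    rw [ht t' ht'] at hq
    exact hq
  exact (pullbackRightPullbackFstIso c σ f).hom.homeomorph.surjective.irreducibleSpace
    (pullbackRightPullbackFstIso c σ f).hom.continuous

theorem exists_nowhereDense_closed_of_not_geometricallyIrreducible {k : Type u} [Field k] {X : Scheme.{u}}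
    (f : X ⟶ Spec (CommRingCat.of k)) [IrreducibleSpace ↥X] [LocallyOfFiniteType f] [QuasiCompact f]
    (h : ¬ GeometricallyIrreducible f) :
    ∃ Y : Set X, IsClosed Y ∧ interior Y = ∅ ∧
      ∀ x : X, FBase.ResidueFieldProp f x (fun K _ _ => IsPurelyInseparable k K) → x ∈ Y := by
  let _ : X.Over (Spec (CommRingCat.of k)) := ⟨f⟩
  let L := SeparableClosure k
  let π := Curv2.bcFst k X L
  have hni : ¬ IrreducibleSpace ↥(Curv2.bc k X L) := fun hi =>
    h (BaseChange.geometricallyIrreducible_of_irreducible_bc k X L)
  obtain ⟨z₀⟩ : Nonempty ↥(Curv2.bc k X L) := by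
    obtain ⟨z, -⟩ := π.surjective (genericPoint X)
    exact ⟨z⟩
  let T₁ := irreducibleComponent z₀
  have hT₁ := irreducibleComponent_mem_irreducibleComponents z₀
  obtain ⟨z₁, hz₁⟩ : ∃ z₁, z₁ ∉ T₁ := by
    by_contra hc
    push Not at hc
    refine hni ?_
    rw [irreducibleSpace_def]
    have e : T₁ = Set.univ := Set.eq_univ_of_forall hc
    rw [Set.top_eq_univ, ← e]
    exact isIrreducible_irreducibleComponent
  let T₂ := irreducibleComponent z₁
  have hT₂ := irreducibleComponent_mem_irreducibleComponents z₁
  have hne : T₁ ≠ T₂ := fun e => hz₁ (e ▸ mem_irreducibleComponent)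
  have himg : ∀ T ∈ irreducibleComponents ↥(Curv2.bc k X L), π '' T = Set.univ := by
    intro T hT
    obtain ⟨t, ht⟩ := BaseChange.exists_generic hT
    obtain ⟨h1, h2⟩ := BaseChange.image_irreducibleComponent k X L hT ht
    rw [h1]
    rw [irreducibleComponents_eq_singleton] at h2
    exact h2
  have hcl : IsClosed (π '' (T₁ ∩ T₂)) :=
    π.isClosedMap _ ((isClosed_of_mem_irreducibleComponents _ hT₁).inter (isClosed_of_mem_irreducibleComponents _ hT₂))
  refine ⟨π '' (T₁ ∩ T₂), hcl, ?_, fun x hx => ?_⟩
  · by_contra hint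
    obtain ⟨y, hy⟩ := Set.nonempty_iff_ne_empty.2 hint
    have hη : genericPoint X ∈ interior (π '' (T₁ ∩ T₂)) := (genericPoint_specializes y).mem_open isOpen_interior hy
    obtain ⟨w, ⟨hw₁, hw₂⟩, hwη⟩ := interior_subset hη
    obtain ⟨t, ht⟩ := BaseChange.exists_generic hT₁
    have htw : t ⤳ w := ht.specializes hw₁
    have hπt : π t = genericPoint X :=
      ((hwη ▸ htw.map π.continuous : π t ⤳ genericPoint X).antisymm (genericPoint_specializes (π t))).eq
    have htw' : t = w := by
      by_contra hne'
      haveI : IsIntegralHom π := inferInstance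
      exact hne' (Japanese.eq_of_specializes_of_isIntegralHom π htw (hπt.trans hwη.symm))
    subst htw'
    obtain ⟨t₂, ht₂⟩ := BaseChange.exists_generic hT₂
    have h2 := BaseChange.eq_of_specializes_generic hT₁ ht (ht₂.specializes hw₂)
    subst h2
    exact hne (ht.def.symm.trans ht₂.def)
  · obtain ⟨φ, hφ, hpi⟩ := hx
    obtain rfl : φ = Curv2.resMap k X x := resMap_eq k X hφ
    obtain ⟨w₁, hw₁, hx₁⟩ := (himg T₁ hT₁).ge (Set.mem_univ x)
    obtain ⟨w₂, hw₂, hx₂⟩ := (himg T₂ hT₂).ge (Set.mem_univ x)
    have : w₁ = w₂ := eq_of_sepClosedIn_separable k X (fun a ha => by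
      let _ : Algebra k (X.residueField x) := (Curv2.resMap k X x).toAlgebra
      haveI := hpi
      have h1 : a ∈ separableClosure k (X.residueField x) := mem_separableClosure_iff.2 ha
      rw [separableClosure.eq_bot_of_isPurelyInseparable] at h1
      exact IntermediateField.mem_bot.1 h1) L w₁ w₂ hx₁ hx₂
    exact ⟨w₁, ⟨hw₁, this ▸ hw₂⟩, hx₁⟩

end GrothLib.FBase7
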