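import Groth.Agent.Lib.FBase7.Conn
import Mathlib.SetTheory.Cardinal.Basic

/-!
# Numbers of components after base field extensions
-/

set_option autoImplicit false
set_option linter.style.haveILetI false
universe u

open CategoryTheory CategoryTheory.Limits AlgebraicGeometry TensorProduct

namespace GrothLib.FBase7

open GrothLib.BaseChange

variable (k : Type u) [Field k] (X : Scheme.{u}) [X.Over (Spec (CommRingCat.of k))]
  (K Ω : Type u) [Field K] [Field Ω] [Algebra k K] [Algebra k Ω] [IsAlgClosed Ω]

omit [IsAlgClosed Ω] in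
/-- A common field extension. -/
theorem exists_common_extension : ∃ (M : Type u) (_ : Field M) (_ : Algebra k M) (_ : Algebra K M) (_ : Algebra Ω M),
    IsScalarTower k K M ∧ IsScalarTower k Ω M := by
  obtain ⟨m, hm⟩ := Ideal.exists_maximal (K ⊗[k] Ω)
  let M := (K ⊗[k] Ω) ⧸ m
  let iK : K →ₐ[k] M := (Ideal.Quotient.mkₐ k m).comp Algebra.TensorProduct.includeLeft
  let iΩ : Ω →ₐ[k] M := (Ideal.Quotient.mkₐ k m).comp Algebra.TensorProduct.includeRight
  exact ⟨M, Ideal.Quotient.field m, inferInstance, iK.toRingHom.toAlgebra, iΩ.toRingHom.toAlgebra,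
    @IsScalarTower.of_algebraMap_eq k K M _ _ _ _ iK.toRingHom.toAlgebra _ fun a => (iK.commutes a).symm,
    @IsScalarTower.of_algebraMap_eq k Ω M _ _ _ _ iΩ.toRingHom.toAlgebra _ fun a => (iΩ.commutes a).symm⟩

theorem mk_irreducibleComponents_le :
    Cardinal.mk ↥(irreducibleComponents ↥(Curv2.bc k X K)) ≤ Cardinal.mk ↥(irreducibleComponents ↥(Curv2.bc k X Ω)) := by
  obtain ⟨M, _, _, _, _, _, _⟩ := exists_common_extension k K Ω
  have := geometricallyIrreducible_bcMap k X Ω M
  refine le_trans ?_ (Cardinal.mk_congr ((bcMap k X Ω M).irreducibleComponentsEquiv (bcMap k X Ω M).isOpenMap)).le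
  let r := bcMap k X K M
  choose t ht using fun Z : ↥(irreducibleComponents ↥(Curv2.bc k X K)) => r.surjective (exists_generic Z.2).choose
  refine Cardinal.mk_le_of_injective (f := fun Z => (⟨irreducibleComponent (t Z),
    irreducibleComponent_mem_irreducibleComponents _⟩ : irreducibleComponents ↥(Curv2.bc k X M))) fun Z Z' hZ => ?_
  have key : ∀ W : ↥(irreducibleComponents ↥(Curv2.bc k X K)),
      closure (r '' irreducibleComponent (t W)) = W.1 := by
    intro W
    refine (W.2.eq_of_le (isIrreducible_irreducibleComponent.image r r.continuous.continuousOn).closure ?_).symm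
    rw [← (exists_generic W.2).choose_spec.def, ← ht W]
    exact closure_mono (Set.singleton_subset_iff.2 ⟨_, mem_irreducibleComponent, rfl⟩)
  have he : irreducibleComponent (t Z) = irreducibleComponent (t Z') := congrArg Subtype.val hZ
  exact Subtype.ext (by rw [← key Z, ← key Z', he])

theorem mk_connectedComponents_le :
    Cardinal.mk (_root_.ConnectedComponents ↥(Curv2.bc k X K)) ≤ Cardinal.mk (_root_.ConnectedComponents ↥(Curv2.bc k X Ω)) := by
  obtain ⟨M, _, _, _, _, _, _⟩ := exists_common_extension k K Ω
  have := geometricallyConnected_bcMap k X Ω M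
  refine le_trans ?_ (Cardinal.mk_congr ((bcMap k X Ω M).connectedComponentsHomeomorph (bcMap k X Ω M).isOpenMap).toEquiv).le
  refine Cardinal.mk_le_of_surjective (f := (bcMap k X K M).continuous.connectedComponentsMap) fun c => ?_
  obtain ⟨z, rfl⟩ := ConnectedComponents.surjective_coe c
  obtain ⟨w, rfl⟩ := (bcMap k X K M).surjective z
  exact ⟨ConnectedComponents.mk w, rfl⟩

end GrothLib.FBase7
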