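import Groth.Agent.Lib.FBase7.SepClosedIn
import Groth.Agent.Lib.FBase7.Card
import Groth.Agent.Lib.Japanese.IntegralSpec
import Mathlib.AlgebraicGeometry.ResidueField
import Mathlib.FieldTheory.PrimitiveElement
import Mathlib.FieldTheory.SeparableClosure

/-!
# Points of base changes and embeddings of separable closures in residue fields
-/

set_option autoImplicit false
set_option linter.style.haveILetI false
universe u

open CategoryTheory CategoryTheory.Limits AlgebraicGeometry

namespace GrothLib.FBase7

open GrothLib.BaseChange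

theorem geometricallyIrreducible_specMap_of_sepClosedIn (S κ : Type u) [Field S] [Field κ] [Algebra S κ]
    (h : separableClosure S κ = ⊥) : GeometricallyIrreducible (Spec.map (CommRingCat.ofHom (algebraMap S κ))) := by
  let Z : Scheme.{u} := Spec (CommRingCat.of κ)
  let _ : Z.Over (Spec (CommRingCat.of S)) := ⟨Spec.map (CommRingCat.ofHom (algebraMap S κ))⟩
  let p : Z := IsLocalRing.closedPoint κ
  haveI : IsClosedImmersion (Z.fromSpecResidueField p) :=
    isClosed_singleton_iff_isClosedImmersion.1 (by
      rw [Set.eq_univ_of_forall fun x => Set.mem_singleton_iff.2 (Subsingleton.elim (α := Spec (CommRingCat.of κ)) x p)]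
      exact isClosed_univ)
  haveI : Surjective (Z.fromSpecResidueField p) := ⟨fun x => ⟨IsLocalRing.closedPoint _, Subsingleton.elim (α := Spec (CommRingCat.of κ)) _ _⟩⟩
  haveI : IsIso (Z.fromSpecResidueField p) := isIso_of_isClosedImmersion_of_surjective _
  let r := Spec.preimage (Z.fromSpecResidueField p)
  have hr : Spec.map r = Z.fromSpecResidueField p := Spec.map_preimage _
  haveI : IsIso (Spec.map r) := by rw [hr]; infer_instance
  haveI : IsIso r := by
    refine ⟨Spec.preimage (inv (Spec.map r)), Spec.map_injective ?_, Spec.map_injective ?_⟩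
    · rw [Spec.map_comp, Spec.map_preimage (inv (Spec.map r)), IsIso.inv_hom_id, Spec.map_id]
    · rw [Spec.map_comp, Spec.map_preimage (inv (Spec.map r)), IsIso.hom_inv_id, Spec.map_id]
  have hres : Curv2.resMap S Z p = r.hom.comp (algebraMap S κ) := by
    refine (resMap_eq S Z (x := p) ?_).symm
    rw [CommRingCat.ofHom_comp, Spec.map_comp, CommRingCat.ofHom_hom, hr]
    rfl
  have hbij : Function.Bijective r.hom := ConcreteCategory.bijective_of_isIso r
  haveI : IrreducibleSpace ↥(Curv2.bc S Z (SeparableClosure S)) := by
    obtain ⟨z₀, -⟩ := (Curv2.bcFst S Z (SeparableClosure S)).surjective p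
    haveI : Nonempty ↥(Curv2.bc S Z (SeparableClosure S)) := ⟨z₀⟩
    haveI : Subsingleton ↥(Curv2.bc S Z (SeparableClosure S)) := ⟨fun a b => by
      refine eq_of_sepClosedIn_separable S Z (x := p) (fun c hc => ?_) _ a b
        (Subsingleton.elim (α := Spec (CommRingCat.of κ)) _ _) (Subsingleton.elim (α := Spec (CommRingCat.of κ)) _ _)
      obtain ⟨d, rfl⟩ := hbij.2 c
      let _ : Algebra S (Z.residueField p) := (Curv2.resMap S Z p).toAlgebra
      let e : κ →ₐ[S] Z.residueField p :=
        { toRingHom := r.hom, commutes' := fun s => (congrArg (fun φ : S →+* Z.residueField p => φ s) hres).symm }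
      have hd : IsSeparable S d := IsSeparable.of_algHom e hc
      have h1 : d ∈ separableClosure S κ := mem_separableClosure_iff.2 hd
      rw [h] at h1
      obtain ⟨s, rfl⟩ := IntermediateField.mem_bot.1 h1
      exact ⟨s, by rw [hres]; rfl⟩⟩
    exact ⟨‹_›⟩
  exact BaseChange.geometricallyIrreducible_of_irreducible_bc S Z (SeparableClosure S)

variable (k : Type u) [Field k] (X : Scheme.{u}) [X.Over (Spec (CommRingCat.of k))] (x : X)

/-- The algebra structure of a residue field. -/
@[reducible] noncomputable def resAlg : Algebra k (X.residueField x) := (Curv2.resMap k X x).toAlgebra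

attribute [local instance] resAlg

/-- The separable closure of the base field in a residue field. -/
noncomputable abbrev sepIn : IntermediateField k (X.residueField x) := separableClosure k (X.residueField x)

/-- The residue field over the separable closure of the base field in it. -/
noncomputable abbrev sepInMap : Spec (X.residueField x) ⟶ Spec (CommRingCat.of (sepIn k X x)) :=
  Spec.map (CommRingCat.ofHom (algebraMap (sepIn k X x) (X.residueField x)))

theorem geometricallyIrreducible_sepInMap : GeometricallyIrreducible (sepInMap k X x) :=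
  geometricallyIrreducible_specMap_of_sepClosedIn (sepIn k X x) (X.residueField x)
    (separableClosure.separableClosure_eq_bot k (X.residueField x))

variable (L : Type u) [Field L] [Algebra k L]

variable {k X x L} in
/-- The part of the fibre over `x` belonging to an embedding. -/
noncomputable abbrev embY (σ : sepIn k X x →ₐ[k] L) : Scheme.{u} :=
  pullback (sepInMap k X x) (Spec.map (CommRingCat.ofHom σ.toRingHom))

variable {k X x L}

theorem embMap_cond (σ : sepIn k X x →ₐ[k] L) :
    (pullback.fst (sepInMap k X x) (Spec.map (CommRingCat.ofHom σ.toRingHom)) ≫ X.fromSpecResidueField x) ≫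
        (X ↘ Spec (CommRingCat.of k)) =
      pullback.snd (sepInMap k X x) (Spec.map (CommRingCat.ofHom σ.toRingHom)) ≫
        Spec.map (CommRingCat.ofHom (algebraMap k L)) := by
  rw [Category.assoc, fromSpecResidueField_over]
  have h1 : Spec.map (CommRingCat.ofHom (Curv2.resMap k X x)) =
      sepInMap k X x ≫ Spec.map (CommRingCat.ofHom (algebraMap k (sepIn k X x))) :=
    (congrArg Spec.map (show CommRingCat.ofHom (Curv2.resMap k X x) = CommRingCat.ofHom (algebraMap k (sepIn k X x)) ≫
      CommRingCat.ofHom (algebraMap (sepIn k X x) (X.residueField x)) from rfl)).trans (Spec.map_comp _ _)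
  rw [h1, pullback.condition_assoc, ← Spec.map_comp, ← CommRingCat.ofHom_comp]
  congr 3
  exact σ.comp_algebraMap

/-- The map of the part of the fibre to the base change. -/
noncomputable def embMap (σ : sepIn k X x →ₐ[k] L) : embY σ ⟶ Curv2.bc k X L :=
  pullback.lift (pullback.fst _ _ ≫ X.fromSpecResidueField x) (pullback.snd _ _) (embMap_cond σ)

theorem embMap_fst (σ : sepIn k X x →ₐ[k] L) (y : embY σ) : Curv2.bcFst k X L (embMap σ y) = x := by
  rw [← Scheme.Hom.comp_apply, embMap, pullback.lift_fst, Scheme.Hom.comp_apply]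
  exact Scheme.fromSpecResidueField_apply _ _

theorem embMap_snd (σ : sepIn k X x →ₐ[k] L) : embMap σ ≫ Curv2.bcSnd k X L = pullback.snd _ _ :=
  pullback.lift_snd _ _ _

theorem geometricallyIrreducible_embY (σ : sepIn k X x →ₐ[k] L) :
    GeometricallyIrreducible (pullback.snd (sepInMap k X x) (Spec.map (CommRingCat.ofHom σ.toRingHom))) := by
  haveI := geometricallyIrreducible_sepInMap k X x
  infer_instance

theorem irreducibleSpace_embY (σ : sepIn k X x →ₐ[k] L) : IrreducibleSpace ↥(embY σ) :=
  (geometricallyIrreducible_sepInMap k X x).geometrically_irreducibleSpace _ _ _ (IsPullback.of_hasPullback _ _)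

/-- Each point over `x` comes from an embedding, for a normal extension receiving one. -/
theorem exists_embMap_eq [Normal k L] (j : sepIn k X x →ₐ[k] L) (z : Curv2.bc k X L) (hz : Curv2.bcFst k X L z = x) :
    ∃ (σ : sepIn k X x →ₐ[k] L) (y : embY σ), embMap σ y = z := by
  subst hz
  let W := Curv2.bc k X L
  let P : Spec (W.residueField z) ⟶ W := W.fromSpecResidueField z
  let ι := (Curv2.bcFst k X L).residueFieldMap z
  have hι : Spec.map ι ≫ X.fromSpecResidueField _ = P ≫ Curv2.bcFst k X L :=
    (Curv2.bcFst k X L).SpecMap_residueFieldMap_fromSpecResidueField z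
  let l := Spec.preimage (P ≫ Curv2.bcSnd k X L)
  have hl : Spec.map l = P ≫ Curv2.bcSnd k X L := Spec.map_preimage _
  have hk : CommRingCat.ofHom (Curv2.resMap k X (Curv2.bcFst k X L z)) ≫ ι = CommRingCat.ofHom (algebraMap k L) ≫ l := by
    apply Spec.map_injective
    rw [Spec.map_comp, Spec.map_comp, ← fromSpecResidueField_over, ← Category.assoc, hι, hl, Category.assoc,
      Category.assoc, pullback.condition]
  let _ : Algebra k (W.residueField z) := (l.hom.comp (algebraMap k L)).toAlgebra
  let _ : Algebra L (W.residueField z) := l.hom.toAlgebra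
  haveI : IsScalarTower k L (W.residueField z) := IsScalarTower.of_algebraMap_eq fun _ => rfl
  let a : sepIn k X (Curv2.bcFst k X L z) →ₐ[k] W.residueField z :=
    { toRingHom := ι.hom.comp (algebraMap _ (X.residueField (Curv2.bcFst k X L z)))
      commutes' := fun c => congrArg (fun φ : CommRingCat.of k ⟶ W.residueField z => φ.hom c) hk }
  have hmem : ∀ s, a s ∈ l.hom.range := by
    intro s
    have hint : IsIntegral k s := by
      have h1 : IsSeparable k (s : X.residueField (Curv2.bcFst k X L z)) := mem_separableClosure_iff.1 s.2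
      exact (isIntegral_algHom_iff (IntermediateField.val _) Subtype.val_injective).1 h1.isIntegral
    have hsplit : ((minpoly k s).map (algebraMap k L)).Splits := by
      rw [← minpoly.algHom_eq j j.injective s]
      exact Normal.splits inferInstance _
    refine hsplit.mem_range_of_isRoot (i := l.hom) (Polynomial.map_ne_zero (minpoly.ne_zero hint)) ?_
    rw [Polynomial.IsRoot, Polynomial.map_map, Polynomial.eval_map]
    show Polynomial.aeval (a s) (minpoly k s) = 0
    rw [Polynomial.aeval_algHom_apply, minpoly.aeval, map_zero]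
  let τ : L →ₐ[k] W.residueField z := IsScalarTower.toAlgHom k L (W.residueField z)
  let e : L ≃ₐ[k] τ.range := AlgEquiv.ofInjectiveField τ
  let σ : sepIn k X (Curv2.bcFst k X L z) →ₐ[k] L := e.symm.toAlgHom.comp (a.codRestrict τ.range fun s => hmem s)
  have hσ : ∀ s, l.hom (σ s) = a s := fun s => congrArg Subtype.val (e.apply_symm_apply (⟨a s, hmem s⟩ : τ.range))
  have hc : Spec.map ι ≫ sepInMap k X (Curv2.bcFst k X L z) =
      Spec.map l ≫ Spec.map (CommRingCat.ofHom σ.toRingHom) := by
    rw [← Spec.map_comp, ← Spec.map_comp]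
    congr 1
    ext s
    exact (hσ s).symm
  refine ⟨σ, pullback.lift (Spec.map ι) (Spec.map l) hc (IsLocalRing.closedPoint (W.residueField z)), ?_⟩
  have hP : pullback.lift (Spec.map ι) (Spec.map l) hc ≫ embMap σ = P := by
    apply pullback.hom_ext
    · rw [Category.assoc, embMap, pullback.lift_fst, pullback.lift_fst_assoc]
      exact hι
    · rw [Category.assoc, embMap, pullback.lift_snd, pullback.lift_snd]
      exact hl
  rw [← Scheme.Hom.comp_apply, hP]
  exact Scheme.fromSpecResidueField_apply _ _

theorem embMap_disjoint (σ σ' : sepIn k X x →ₐ[k] L) (y : embY σ) (y' : embY σ') (h : embMap σ y = embMap σ' y') :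
    σ = σ' := by
  let M := (embY σ).residueField y
  let M' := (embY σ').residueField y'
  -- both embeddings are read in the residue field of the common image
  obtain ⟨w, hw₁, hw₂⟩ := Scheme.Pullback.exists_preimage_pullback (f := embMap σ) (g := embMap σ') y y' h
  let P := pullback (embMap σ) (embMap σ')
  let a : Spec (P.residueField w) ⟶ P := P.fromSpecResidueField w
  let b₁ := a ≫ pullback.fst (embMap σ) (embMap σ') ≫ pullback.fst (sepInMap k X x) _
  let b₂ := a ≫ pullback.snd (embMap σ) (embMap σ') ≫ pullback.fst (sepInMap k X x) _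
  have e₁ : embMap σ ≫ Curv2.bcFst k X L = pullback.fst _ _ ≫ X.fromSpecResidueField x := pullback.lift_fst _ _ _
  have e₂ : embMap σ' ≫ Curv2.bcFst k X L = pullback.fst _ _ ≫ X.fromSpecResidueField x := pullback.lift_fst _ _ _
  have hb : b₁ = b₂ := by
    rw [← cancel_mono (X.fromSpecResidueField x)]
    simp only [b₁, b₂, Category.assoc]
    rw [← e₁, ← e₂, pullback.condition_assoc]
  have hl : a ≫ pullback.fst (embMap σ) (embMap σ') ≫ pullback.snd (sepInMap k X x) _ =
      a ≫ pullback.snd (embMap σ) (embMap σ') ≫ pullback.snd (sepInMap k X x) _ := by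
    rw [← embMap_snd σ, ← embMap_snd σ', pullback.condition_assoc]
  let l := Spec.preimage (a ≫ pullback.fst (embMap σ) (embMap σ') ≫ pullback.snd (sepInMap k X x) _)
  have key : CommRingCat.ofHom σ.toRingHom ≫ l = CommRingCat.ofHom σ'.toRingHom ≫ l := by
    apply Spec.map_injective
    rw [Spec.map_comp, Spec.map_comp, Spec.map_preimage]
    conv_rhs => rw [hl]
    rw [Category.assoc, Category.assoc, Category.assoc, Category.assoc]
    erw [← pullback.condition, ← pullback.condition]
    have := congrArg (· ≫ sepInMap k X x) hb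
    simp only [b₁, b₂, Category.assoc] at this
    exact this
  refine AlgHom.ext fun s => l.hom.injective ?_
  exact congrArg (fun φ : CommRingCat.of (sepIn k X x) ⟶ P.residueField w => φ.hom s) key

theorem card_algHom [Normal k L] [FiniteDimensional k (sepIn k X x)] (j : sepIn k X x →ₐ[k] L) :
    Nat.card (sepIn k X x →ₐ[k] L) = Module.finrank k (sepIn k X x) := by
  haveI : Algebra.IsSeparable k (sepIn k X x) := separableClosure.isSeparable k (X.residueField x)
  refine AlgHom.natCard_of_splits k (sepIn k X x) L fun s => ?_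
  rw [← minpoly.algHom_eq j j.injective s]
  exact Normal.splits inferInstance _

theorem embMap_eq_embMap [Algebra.IsAlgebraic k L] (σ : sepIn k X x →ₐ[k] L) (y y' : embY σ) :
    embMap σ y = embMap σ y' := by
  haveI := irreducibleSpace_embY σ
  have h : ∀ y, embMap σ (genericPoint ↥(embY σ)) = embMap σ y := fun y =>
    Japanese.eq_of_specializes_of_isIntegralHom (Curv2.bcFst k X L)
      ((genericPoint_specializes y).map (embMap σ).continuous) ((embMap_fst σ _).trans (embMap_fst σ y).symm)
  exact (h y).symm.trans (h y')

/-- The point of the base change belonging to an embedding. -/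
noncomputable def embPt (σ : sepIn k X x →ₐ[k] L) : Curv2.bc k X L :=
  embMap σ (irreducibleSpace_embY σ).toNonempty.some

theorem bcFst_embPt (σ : sepIn k X x →ₐ[k] L) : Curv2.bcFst k X L (embPt σ) = x := embMap_fst _ _

theorem embPt_injective : Function.Injective (embPt (k := k) (X := X) (x := x) (L := L)) :=
  fun σ σ' h => embMap_disjoint σ σ' _ _ h

theorem exists_embPt_eq [Normal k L] [Algebra.IsAlgebraic k L] (j : sepIn k X x →ₐ[k] L) (z : Curv2.bc k X L)
    (hz : Curv2.bcFst k X L z = x) : ∃ σ : sepIn k X x →ₐ[k] L, embPt σ = z := by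
  obtain ⟨σ, y, h⟩ := exists_embMap_eq j z hz
  exact ⟨σ, (embMap_eq_embMap σ _ y).trans h⟩

section Conclusions

variable (k X x)

theorem mk_connectedComponents_le_of_isSepClosed (K S : Type u) [Field K] [Field S] [Algebra k K] [Algebra k S]
    [IsSepClosed S] :
    Cardinal.mk (_root_.ConnectedComponents ↥(Curv2.bc k X K)) ≤ Cardinal.mk (_root_.ConnectedComponents ↥(Curv2.bc k X S)) := by
  obtain ⟨M, _, _, _, _, _, _⟩ := exists_common_extension k K S
  have h := geometricallyIrreducible_bcMap_of_isSepClosed k X S M
  have : GeometricallyConnected (bcMap k X S M) := by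
    refine ⟨fun F _ y Z fst snd hp => ?_⟩
    have := h.geometrically_irreducibleSpace _ _ _ hp
    infer_instance
  refine le_trans ?_ (Cardinal.mk_congr ((bcMap k X S M).connectedComponentsHomeomorph (bcMap k X S M).isOpenMap).toEquiv).le
  refine Cardinal.mk_le_of_surjective (f := (bcMap k X K M).continuous.connectedComponentsMap) fun c => ?_
  obtain ⟨z, rfl⟩ := ConnectedComponents.surjective_coe c
  obtain ⟨w, rfl⟩ := (bcMap k X K M).surjective z
  exact ⟨ConnectedComponents.mk w, rfl⟩

theorem card_connectedComponents_bc_le [ConnectedSpace X] [FiniteDimensional k (sepIn k X x)]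
    (K : Type u) [Field K] [Algebra k K] :
    Finite (_root_.ConnectedComponents ↥(Curv2.bc k X K)) ∧
      Nat.card (_root_.ConnectedComponents ↥(Curv2.bc k X K)) ≤ Module.finrank k (sepIn k X x) := by
  haveI : Algebra.IsSeparable k (sepIn k X x) := separableClosure.isSeparable k (X.residueField x)
  let S := SeparableClosure k
  let j : sepIn k X x →ₐ[k] S := IsSepClosed.lift
  let F : (sepIn k X x →ₐ[k] S) → _root_.ConnectedComponents ↥(Curv2.bc k X S) := fun σ => ConnectedComponents.mk (embPt σ)
  have hF : Function.Surjective F := fun c => by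
    obtain ⟨z, rfl⟩ := ConnectedComponents.surjective_coe c
    have : x ∈ Curv2.bcFst k X S '' connectedComponent z := by
      rw [image_connectedComponent, PreconnectedSpace.connectedComponent_eq_univ]
      trivial
    obtain ⟨w, hw, hwx⟩ := this
    obtain ⟨σ, hσ⟩ := exists_embPt_eq j w hwx
    refine ⟨σ, ConnectedComponents.coe_eq_coe'.2 ?_⟩
    rw [hσ]
    exact hw
  have hle := (mk_connectedComponents_le_of_isSepClosed k X K S).trans (Cardinal.mk_le_of_surjective hF)
  have hfin : Cardinal.mk (sepIn k X x →ₐ[k] S) < Cardinal.aleph0 := Cardinal.lt_aleph0_iff_finite.2 inferInstance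
  refine ⟨Cardinal.lt_aleph0_iff_finite.1 (hle.trans_lt hfin), ?_⟩
  rw [← card_algHom j]
  exact Cardinal.toNat_le_toNat hle hfin

theorem card_irreducibleComponents_bc [IrreducibleSpace X] [Normal k L] [Algebra.IsAlgebraic k L]
    [FiniteDimensional k (sepIn k X (genericPoint X))] (j : sepIn k X (genericPoint X) →ₐ[k] L) :
    Nat.card (irreducibleComponents ↥(Curv2.bc k X L)) = Module.finrank k (sepIn k X (genericPoint X)) := by
  have hmax : ∀ σ : sepIn k X (genericPoint X) →ₐ[k] L, closure {embPt σ} ∈ irreducibleComponents ↥(Curv2.bc k X L) := by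
    intro σ
    refine closure_singleton_mem_irreducibleComponents fun t ht => ?_
    refine Japanese.eq_of_specializes_of_isIntegralHom (Curv2.bcFst k X L) ht ?_
    have h1 := ht.map (Curv2.bcFst k X L).continuous
    rw [bcFst_embPt] at h1 ⊢
    exact (h1.antisymm (genericPoint_specializes _)).eq
  rw [← card_algHom j]
  symm
  refine Nat.card_eq_of_bijective (fun σ => (⟨closure {embPt σ}, hmax σ⟩ : irreducibleComponents ↥(Curv2.bc k X L)))
    ⟨fun σ σ' h => embPt_injective (IsGenericPoint.eq (S := closure {embPt σ}) rfl ?_), fun T => ?_⟩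
  · exact (congrArg Subtype.val h).symm
  · obtain ⟨t, ht⟩ := exists_generic T.2
    have h1 : Curv2.bcFst k X L t = genericPoint X :=
      (eq_of_specializes_bcFst k X L (fun t' h => eq_of_specializes_generic T.2 ht h) (genericPoint_specializes _)).symm
    obtain ⟨σ, hσ⟩ := exists_embPt_eq j t h1
    exact ⟨σ, Subtype.ext (show closure {embPt σ} = T.1 by rw [hσ]; exact ht.def)⟩

theorem isConnected_preimage_component_of_embedding [Normal k L] (j : sepIn k X x →ₐ[k] L)
    (x' : Curv2.bc k X L) (hx : x ∈ connectedComponent (Curv2.bcFst k X L x')) [Algebra.IsAlgebraic k L]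
    (K : Type u) [Field K] [Algebra L K] :
    _root_.IsConnected (FBase.bcπ (Curv2.bcSnd k X L) K ⁻¹' connectedComponent x') := by
  rw [← image_connectedComponent] at hx
  obtain ⟨w, hw, hwx⟩ := hx
  obtain ⟨σ, y, hy⟩ := exists_embMap_eq j w hwx
  have h := geometricallyIrreducible_embY σ
  have : GeometricallyConnected (pullback.snd (sepInMap k X x) (Spec.map (CommRingCat.ofHom σ.toRingHom))) := by
    refine ⟨fun F _ y Z fst snd hp => ?_⟩
    have := h.geometrically_irreducibleSpace _ _ _ hp
    infer_instance
  rw [connectedComponent_eq hw, ← hy]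
  exact isConnected_preimage_component_range _ _ (embMap σ) (embMap_snd σ) y K

theorem isIrreducible_preimage_range' {k : Type u} [Field k] {X Y : Scheme.{u}} (f : X ⟶ Spec (CommRingCat.of k))
    (g : Y ⟶ Spec (CommRingCat.of k)) (h : Y ⟶ X) (w : h ≫ f = g) [GeometricallyIrreducible g]
    (K : Type u) [Field K] [Algebra k K] : IsIrreducible (FBase.bcπ f K ⁻¹' Set.range h) := by
  let σ := Spec.map (CommRingCat.ofHom (algebraMap k K))
  let φ : pullback g σ ⟶ pullback f σ := pullback.map g σ f σ h (𝟙 _) (𝟙 _)
    (by rw [Category.comp_id, w]) (by rw [Category.comp_id, Category.id_comp])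
  have hr : Set.range φ = FBase.bcπ f K ⁻¹' Set.range h := by
    rw [Scheme.Pullback.range_map]
    have : Set.range (𝟙 (Spec (CommRingCat.of K)) : Spec (CommRingCat.of K) ⟶ _) = Set.univ :=
      Set.range_eq_univ.2 fun a => ⟨a, rfl⟩
    rw [this, Set.preimage_univ, Set.inter_univ]
    rfl
  have : IrreducibleSpace ↥(pullback g σ) :=
    GeometricallyIrreducible.geometrically_irreducibleSpace _ _ _ (IsPullback.of_hasPullback g σ)
  rw [← hr, ← Set.image_univ]
  exact (IrreducibleSpace.isIrreducible_univ _).image φ φ.continuous.continuousOn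

theorem isIrreducible_preimage_component_of_embedding [Normal k L] [Algebra.IsAlgebraic k L]
    (j : sepIn k X x →ₐ[k] L) {t : Curv2.bc k X L} (ht : Curv2.bcFst k X L t = x)
    (K : Type u) [Field K] [Algebra L K] :
    IsIrreducible (FBase.bcπ (Curv2.bcSnd k X L) K ⁻¹' closure {t}) := by
  obtain ⟨σ, hσ⟩ := exists_embPt_eq j t ht
  have := geometricallyIrreducible_embY σ
  have hr : Set.range (embMap σ) = {t} := by
    refine Set.Subset.antisymm ?_ ?_
    · rintro _ ⟨y, rfl⟩
      exact (embMap_eq_embMap σ y _).trans hσ
    · rintro _ rfl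
      exact ⟨_, hσ⟩
  let _ : (Curv2.bc k X L).Over (Spec (CommRingCat.of L)) := ⟨Curv2.bcSnd k X L⟩
  show IsIrreducible (Curv2.bcFst L (Curv2.bc k X L) K ⁻¹' closure {t})
  rw [(Curv2.bcFst L (Curv2.bc k X L) K).isOpenMap.preimage_closure_eq_closure_preimage
    (Curv2.bcFst L (Curv2.bc k X L) K).continuous, ← hr]
  exact (isIrreducible_preimage_range' (Curv2.bcSnd k X L) _ (embMap σ) (embMap_snd σ) K).closure

theorem exists_galois_receiving {ι : Type*} [Finite ι] (p : ι → X) (h : ∀ i, FiniteDimensional k (sepIn k X (p i))) :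
    ∃ (L : Type u) (_ : Field L) (_ : Algebra k L), FiniteDimensional k L ∧ Algebra.IsSeparable k L ∧
      Normal k L ∧ ∀ i, Nonempty (sepIn k X (p i) →ₐ[k] L) := by
  have : ∀ i, Algebra.IsSeparable k (sepIn k X (p i)) := fun i => separableClosure.isSeparable k (X.residueField (p i))
  let S := SeparableClosure k
  let j : ∀ i, sepIn k X (p i) →ₐ[k] S := fun i => IsSepClosed.lift
  let F : IntermediateField k S := ⨆ i, (j i).fieldRange
  haveI : ∀ i, FiniteDimensional k (j i).fieldRange := fun i => (j i).toLinearMap.finiteDimensional_range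
  haveI : FiniteDimensional k F := IntermediateField.finiteDimensional_iSup_of_finite
  let N : IntermediateField k S := IntermediateField.normalClosure k F S
  have hF : F ≤ N := IntermediateField.le_normalClosure F
  exact ⟨N, inferInstance, inferInstance, inferInstance, inferInstance, inferInstance, fun i =>
    ⟨(IntermediateField.inclusion ((le_iSup (fun i => (j i).fieldRange) i).trans hF)).comp (j i).rangeRestrict⟩⟩

end Conclusions

end GrothLib.FBase7
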