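import Mathlib

/-!
# Tensor products of field extensions
-/

set_option autoImplicit false
set_option linter.style.haveILetI false
universe u

open scoped TensorProduct

namespace GrothLib.FBase7

theorem exists_length_eq_pow {k K k' : Type u} [Field k] [Field K] [Field k']
    [Algebra k K] [Algebra k k'] (p : ℕ) [hp : ExpChar k p]
    [FiniteDimensional k k'] [IsPurelyInseparable k k'] :
    ∃ n : ℕ, Module.length (K ⊗[k] k') (K ⊗[k] k') = (p ^ n : ℕ) := by
  have hj := (PrimeSpectrum.isHomeomorph_comap_of_isPurelyInseparable k k' K).injective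
  haveI : Subsingleton (PrimeSpectrum (K ⊗[k] k')) := hj.subsingleton
  haveI : Nontrivial (K ⊗[k] k') := inferInstance
  haveI : IsLocalRing (K ⊗[k] k') := IsLocalRing.of_unique_max_ideal (by
    obtain ⟨m, hm⟩ := Ideal.exists_maximal (K ⊗[k] k')
    exact ⟨m, hm, fun m' hm' => congrArg PrimeSpectrum.asIdeal
      (Subsingleton.elim (⟨m', hm'.isPrime⟩ : PrimeSpectrum (K ⊗[k] k')) ⟨m, hm.isPrime⟩)⟩)
  haveI : IsLocalHom (algebraMap K (K ⊗[k] k')) := by
    refine ⟨fun a ha => isUnit_iff_ne_zero.2 fun h => ?_⟩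
    rw [h, map_zero] at ha
    exact not_isUnit_zero ha
  obtain ⟨a, ha⟩ := IsPurelyInseparable.finrank_eq_pow k' p (F := k)
  have h1 : Module.length K (K ⊗[k] k') = (p ^ a : ℕ) := by
    rw [Module.length_eq_finrank, Module.finrank_baseChange, ha]
  haveI : IsArtinianRing (K ⊗[k] k') := IsArtinianRing.of_finite K _
  have hne : Module.length (K ⊗[k] k') (K ⊗[k] k') ≠ ⊤ := Module.length_ne_top
  obtain ⟨l, hl⟩ := ENat.ne_top_iff_exists.1 hne
  have h3 := IsLocalRing.length_restrictScalars K (K ⊗[k] k') (K ⊗[k] k')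
  have h4 : Module.length (IsLocalRing.ResidueField K) (IsLocalRing.ResidueField (K ⊗[k] k')) ≠ ⊤ := fun h => by
    rw [h, ← hl, h1] at h3
    rcases Nat.eq_zero_or_pos l with hl0 | hl0
    · rw [hl0] at hl
      exact (Module.length_pos (R := K ⊗[k] k') (M := K ⊗[k] k')).ne' hl.symm
    · rw [ENat.mul_top (by exact_mod_cast hl0.ne')] at h3
      exact ENat.coe_ne_top _ h3
  obtain ⟨d, hd⟩ := ENat.ne_top_iff_exists.1 h4
  rw [h1, ← hl, ← hd] at h3
  have hdvd : l ∣ p ^ a := ⟨d, by exact_mod_cast h3⟩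
  rcases hp with _ | hprime
  · refine ⟨0, ?_⟩
    rw [one_pow] at hdvd ⊢
    rw [← hl, Nat.dvd_one.1 hdvd]
  · obtain ⟨n, -, hn⟩ := (Nat.dvd_prime_pow hprime).1 hdvd
    exact ⟨n, by rw [← hl, hn]⟩

/-- In a torsion free integral extension of a domain the associated primes are minimal. -/
theorem mem_minimalPrimes_of_flat_integral {D B : Type*} [CommRing D] [IsDomain D] [CommRing B] [Algebra D B]
    [Module.Flat D B] [Algebra.IsIntegral D B] {P : Ideal B} (hP : P ∈ associatedPrimes B B) :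
    P ∈ minimalPrimes B := by
  have hPp := hP.isPrime
  obtain ⟨_, b, hb⟩ := hP
  have hcomap : P.comap (algebraMap D B) = ⊥ := by
    rw [eq_bot_iff]
    intro d hd
    by_contra hd0
    rw [hb] at hd
    obtain ⟨n, hn⟩ := hd
    rw [Submodule.mem_colon_singleton, Submodule.mem_bot, smul_eq_mul, ← map_pow, ← Algebra.smul_def] at hn
    have hreg : IsRegular (d ^ n) := IsRegular.pow n (IsRegular.of_ne_zero fun h => hd0 (by simp [h]))
    have : IsSMulRegular B (d ^ n) := Module.Flat.isSMulRegular_of_isRegular hreg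
    have hb0 : b = 0 := this (hn.trans (smul_zero _).symm)
    apply hPp.ne_top
    rw [hb, hb0]
    simp [Ideal.radical_top]
  refine ⟨⟨hPp, bot_le⟩, fun Q hQ hle => ?_⟩
  by_contra hne
  obtain ⟨x, hxP, hxQ⟩ := SetLike.not_le_iff_exists.1 hne
  haveI := hQ.1
  have hlt := Ideal.comap_lt_comap_of_integral_mem_sdiff (R := D) hle (x := x) ⟨hxP, hxQ⟩ (Algebra.IsIntegral.isIntegral x)
  rw [hcomap] at hlt
  exact not_lt_bot hlt

theorem subset_minimalPrimes_aux {k K L : Type u} [Field k] [Field K] [Field L] [Algebra k K] [Algebra k L]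
    {F : Type u} [Field F] [Algebra k F] [Algebra F L] [IsScalarTower k F L] [Algebra.IsAlgebraic F L]
    [IsDomain (F ⊗[k] K)] :
    associatedPrimes (K ⊗[k] L) (K ⊗[k] L) ⊆ minimalPrimes (K ⊗[k] L) := by
  let E₁ : ((F ⊗[k] K) ⊗[F] L) ≃ₐ[k] (K ⊗[k] L) :=
    ((Algebra.TensorProduct.comm F (F ⊗[k] K) L).restrictScalars k).trans
      (((Algebra.TensorProduct.cancelBaseChange k F F L K).restrictScalars k).trans
        (Algebra.TensorProduct.comm k L K))
  let g : (F ⊗[k] K) →ₐ[k] (K ⊗[k] L) :=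
    E₁.toAlgHom.comp ((Algebra.TensorProduct.includeLeft : (F ⊗[k] K) →ₐ[F] (F ⊗[k] K) ⊗[F] L).restrictScalars k)
  letI : Algebra (F ⊗[k] K) (K ⊗[k] L) := g.toRingHom.toAlgebra
  let E' : ((F ⊗[k] K) ⊗[F] L) ≃ₐ[F ⊗[k] K] (K ⊗[k] L) := AlgEquiv.ofRingEquiv (f := E₁.toRingEquiv) fun _ => rfl
  haveI : Module.Flat (F ⊗[k] K) (K ⊗[k] L) := Module.Flat.of_linearEquiv E'.symm.toLinearEquiv
  haveI : Algebra.IsIntegral (F ⊗[k] K) (K ⊗[k] L) := ⟨fun x => by
    obtain ⟨y, rfl⟩ := E'.surjective x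
    exact (Algebra.IsIntegral.isIntegral y).map E'⟩
  exact fun P hP => mem_minimalPrimes_of_flat_integral (D := F ⊗[k] K) hP

theorem associatedPrimes_subset_minimalPrimes {k K L : Type u} [Field k] [Field K] [Field L]
    [Algebra k K] [Algebra k L] :
    associatedPrimes (K ⊗[k] L) (K ⊗[k] L) ⊆ minimalPrimes (K ⊗[k] L) := by
  obtain ⟨s, hs⟩ := exists_isTranscendenceBasis k L
  let F := IntermediateField.adjoin k (Set.range ((↑) : s → L))
  haveI : Algebra.IsAlgebraic F L := hs.isAlgebraic_field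
  let P₀ := MvPolynomial s k
  let Q₀ := FractionRing P₀
  let e₀ : Q₀ ≃ₐ[k] F := hs.1.aevalEquivField
  haveI : IsDomain (Q₀ ⊗[k] K) := by
    let e' : Q₀ ⊗[k] K ≃+* Q₀ ⊗[P₀] (P₀ ⊗[k] K) :=
      (Algebra.TensorProduct.cancelBaseChange k P₀ P₀ Q₀ K).symm.toRingEquiv
    suffices IsDomain (Q₀ ⊗[P₀] (P₀ ⊗[k] K)) from MulEquiv.isDomain (Q₀ ⊗[P₀] (P₀ ⊗[k] K)) e'.toMulEquiv
    let e'' : P₀ ⊗[k] K ≃ₐ[k] MvPolynomial s K :=
      (Algebra.TensorProduct.comm k P₀ K).trans ((MvPolynomial.algebraTensorAlgEquiv k K).restrictScalars k)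
    haveI : IsDomain (P₀ ⊗[k] K) := MulEquiv.isDomain (MvPolynomial s K) e''.toMulEquiv
    letI : Algebra (P₀ ⊗[k] K) (Q₀ ⊗[P₀] (P₀ ⊗[k] K)) := Algebra.TensorProduct.rightAlgebra
    refine IsLocalization.isDomain_of_le_nonZeroDivisors (R := P₀ ⊗[k] K)
      (M := Algebra.algebraMapSubmonoid (P₀ ⊗[k] K) (nonZeroDivisors P₀)) (Q₀ ⊗[P₀] (P₀ ⊗[k] K)) ?_
    rintro _ ⟨f, hf, rfl⟩
    refine mem_nonZeroDivisors_of_ne_zero fun h => nonZeroDivisors.ne_zero hf ?_
    have hinj : Function.Injective (Algebra.TensorProduct.includeLeft : P₀ →ₐ[k] P₀ ⊗[k] K) :=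
      Algebra.TensorProduct.includeLeft_injective (S := k) (algebraMap k K).injective
    exact hinj (h.trans (map_zero _).symm)
  haveI : IsDomain (F ⊗[k] K) :=
    MulEquiv.isDomain (Q₀ ⊗[k] K) (Algebra.TensorProduct.congr e₀.symm (AlgEquiv.refl : K ≃ₐ[k] K)).toMulEquiv
  exact subset_minimalPrimes_aux (F := F)

end GrothLib.FBase7
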