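import Groth.Agent.Lib.FBase7.Points2
import Groth.Agent.Lib.LocNoeth.Scheme
import Groth.Agent.Lib.GrpSchField.ReducedProd
import Groth.Agent.Lib.UnitProd.Split
import Groth.Agent.Lib.FBase7.Reduced
import Mathlib.AlgebraicGeometry.Noetherian

/-!
# The geometrically pointwise integral locus
-/

set_option autoImplicit false
set_option linter.style.haveILetI false
universe u

open CategoryTheory CategoryTheory.Limits AlgebraicGeometry TopologicalSpace

namespace GrothLib.FBase7

theorem isOpen_isDomain_stalk (X : Scheme.{u}) [IsLocallyNoetherian X] :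
    IsOpen {x : X | IsDomain (X.presheaf.stalk x)} := by
  refine isOpen_iff_forall_mem_open.2 fun x (hx : IsDomain (X.presheaf.stalk x)) => ?_
  have hp : (nilradical (X.presheaf.stalk x)).IsPrime := by
    rw [nilradical_eq_zero]; exact Ideal.isPrime_bot
  obtain ⟨U, hxU, hU⟩ := LocNoeth.exists_irreducible_nhd x hp
  obtain ⟨V, hxV, hV⟩ := LocNoeth.exists_reduced_nhd x
  let W : X.Opens := U ⊓ V
  have hW : IsIrreducible (W : Set X) :=
    ⟨⟨x, hxU, hxV⟩, hU.2.open_subset W.2 fun z hz => hz.1⟩
  haveI : IrreducibleSpace ↥(W : Scheme.{u}) := Subtype.irreducibleSpace hW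
  haveI : AlgebraicGeometry.IsReduced (W : Scheme.{u}) :=
    isReduced_of_isOpenImmersion (X.homOfLE (show W ≤ V from inf_le_right))
  haveI := isIntegral_of_irreducibleSpace_of_isReduced (W : Scheme.{u})
  refine ⟨W, fun y hy => ?_, W.2, hxU, hxV⟩
  let y' : W := ⟨y, hy⟩
  change IsDomain (X.presheaf.stalk y)
  exact (W.stalkIso y').commRingCatIsoToRingEquiv.toMulEquiv.symm.isDomain

variable {k : Type u} [Field k] {X : Scheme.{u}} (f : X ⟶ Spec (CommRingCat.of k))

theorem isDomain_stalk_of_isGeomPtIntegralAt {Ω : Type u} [Field Ω] [Algebra k Ω] (z : ↥(FBase.bc f Ω))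
    (h : FBase.IsGeomPtIntegralAt f (FBase.bcπ f Ω z)) : IsDomain ((FBase.bc f Ω).presheaf.stalk z) :=
  h Ω z rfl

theorem isGeomPtIntegralAt_of_isDomain {Ω : Type u} [Field Ω] [Algebra k Ω] [IsAlgClosed Ω] (z : ↥(FBase.bc f Ω))
    (h : IsDomain ((FBase.bc f Ω).presheaf.stalk z)) : FBase.IsGeomPtIntegralAt f (FBase.bcπ f Ω z) := by
  intro L _ _ v hv
  obtain ⟨M, _, _, q, w, hq, hqw, hw⟩ := exists_common_point f z v hv
  refine isDomain_stalk_of_flat q w hqw ?_
  subst hw
  exact isDomain_stalk_pullback (FBase.bcStr f Ω) _ w h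

theorem isOpen_isGeomPtIntegralAt [LocallyOfFiniteType f] : IsOpen {x : X | FBase.IsGeomPtIntegralAt f x} := by
  let Ω := AlgebraicClosure k
  let π := FBase.bcπ f Ω
  haveI : UniversallyOpen π := MorphismProperty.pullback_fst _ _ inferInstance
  haveI : Surjective π := MorphismProperty.pullback_fst _ _ (surjective_specMap _)
  haveI : LocallyOfFiniteType (FBase.bcStr f Ω) := MorphismProperty.pullback_snd _ _ inferInstance
  haveI : IsLocallyNoetherian (FBase.bc f Ω) := LocallyOfFiniteType.isLocallyNoetherian (FBase.bcStr f Ω)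
  convert π.isOpenMap _ (isOpen_isDomain_stalk (FBase.bc f Ω)) using 1
  ext x
  constructor
  · intro h
    obtain ⟨z, rfl⟩ := π.surjective x
    exact ⟨z, isDomain_stalk_of_isGeomPtIntegralAt f z h, rfl⟩
  · rintro ⟨z, hz, rfl⟩
    exact isGeomPtIntegralAt_of_isDomain f z hz

theorem forall_isDomain_stalk_iff (Y : Scheme.{u}) [IsLocallyNoetherian Y] [CompactSpace Y] :
    (∀ y : Y, IsDomain (Y.presheaf.stalk y)) ↔
      AlgebraicGeometry.IsReduced Y ∧ Nat.card ↥(irreducibleComponents ↥Y) = Nat.card (_root_.ConnectedComponents ↥Y) := by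
  haveI : IsNoetherian Y := {}
  haveI : Finite ↥(irreducibleComponents ↥Y) := NoetherianSpace.finite_irreducibleComponents.to_subtype
  let c : ↥(irreducibleComponents ↥Y) → _root_.ConnectedComponents ↥Y :=
    fun T => ConnectedComponents.mk T.2.1.nonempty.some
  have hc : ∀ (T : ↥(irreducibleComponents ↥Y)) (y : Y), y ∈ T.1 → c T = ConnectedComponents.mk y := fun T y hy =>
    ConnectedComponents.coe_eq_coe'.2
      (T.2.1.isConnected.isPreconnected.subset_connectedComponent hy T.2.1.nonempty.some_mem)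
  have hcs : Function.Surjective c := fun C => by
    obtain ⟨y, rfl⟩ := ConnectedComponents.surjective_coe C
    exact ⟨⟨_, irreducibleComponent_mem_irreducibleComponents y⟩, hc _ y mem_irreducibleComponent⟩
  have hfin : Finite (_root_.ConnectedComponents ↥Y) := Finite.of_surjective c hcs
  constructor
  · intro h
    haveI : AlgebraicGeometry.IsReduced Y := by
      haveI : ∀ y : Y, _root_.IsReduced (Y.presheaf.stalk y) := fun y => by have := h y; infer_instance
      exact isReduced_of_isReduced_stalk Y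
    refine ⟨inferInstance, Nat.card_congr (Equiv.ofBijective c ⟨fun S T hST => ?_, hcs⟩)⟩
    have huniq : ∀ (A B : ↥(irreducibleComponents ↥Y)) (y : Y), y ∈ A.1 → y ∈ B.1 → A = B := fun A B y hA hB => by
      have := h y
      refine Subtype.ext ((LocNoeth.nilradical_isPrime_iff Y y).1 ?_ A.1 A.2 B.1 B.2 hA hB)
      rw [nilradical_eq_zero]; exact Ideal.isPrime_bot
    have hclopen : IsClopen S.1 := by
      refine ⟨isClosed_of_mem_irreducibleComponents _ S.2, isClosed_compl_iff.1 ?_⟩
      have : S.1ᶜ = ⋃ T ∈ {T : ↥(irreducibleComponents ↥Y) | T ≠ S}, T.1 := by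
        ext y
        simp only [Set.mem_compl_iff, Set.mem_iUnion, Set.mem_setOf_eq]
        constructor
        · exact fun hy => ⟨⟨_, irreducibleComponent_mem_irreducibleComponents y⟩,
            fun e => hy (e ▸ mem_irreducibleComponent), mem_irreducibleComponent⟩
        · rintro ⟨T, hT, hyT⟩ hy
          exact hT (huniq T S y hyT hy)
      rw [this]
      exact (Set.toFinite _).isClosed_biUnion fun T _ => isClosed_of_mem_irreducibleComponents _ T.2
    obtain ⟨y, hy⟩ := T.2.1.nonempty
    have h1 := hc T y hy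
    rw [← hST, hc S _ S.2.1.nonempty.some_mem, ConnectedComponents.coe_eq_coe] at h1
    exact huniq S T y (hclopen.connectedComponent_subset S.2.1.nonempty.some_mem (h1 ▸ mem_connectedComponent)) hy
  · rintro ⟨hr, hcard⟩ y
    have hinj : Function.Injective c := (hcs.bijective_of_nat_card_le hcard.le).1
    have hp : (nilradical (Y.presheaf.stalk y)).IsPrime := by
      rw [LocNoeth.nilradical_isPrime_iff]
      intro A hA B hB hyA hyB
      exact congrArg Subtype.val (@hinj ⟨A, hA⟩ ⟨B, hB⟩ ((hc _ y hyA).trans (hc ⟨B, hB⟩ y hyB).symm))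
    rw [nilradical_eq_zero] at hp
    exact IsDomain.of_bot_isPrime _

theorem forall_isGeomPtIntegralAt_iff {Ω : Type u} [Field Ω] [Algebra k Ω] [IsAlgClosed Ω] [LocallyOfFiniteType f]
    [QuasiCompact f] :
    (∀ x : X, FBase.IsGeomPtIntegralAt f x) ↔
      (GeometricallyReduced f ∧
        Nat.card ↥(irreducibleComponents ↥(FBase.bc f Ω)) = Nat.card (_root_.ConnectedComponents ↥(FBase.bc f Ω))) := by
  haveI : LocallyOfFiniteType (FBase.bcStr f Ω) := MorphismProperty.pullback_snd _ _ inferInstance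
  haveI : QuasiCompact (FBase.bcStr f Ω) := MorphismProperty.pullback_snd _ _ inferInstance
  haveI : IsLocallyNoetherian (FBase.bc f Ω) := LocallyOfFiniteType.isLocallyNoetherian (FBase.bcStr f Ω)
  haveI : CompactSpace ↥(FBase.bc f Ω) := QuasiCompact.compactSpace_of_compactSpace (FBase.bcStr f Ω)
  haveI : Surjective (FBase.bcπ f Ω) := MorphismProperty.pullback_fst _ _ (surjective_specMap _)
  constructor
  · intro h
    have hd : ∀ z, IsDomain ((FBase.bc f Ω).presheaf.stalk z) := fun z => isDomain_stalk_of_isGeomPtIntegralAt f z (h _)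
    obtain ⟨hr, hc⟩ := (forall_isDomain_stalk_iff _).1 hd
    haveI := hr
    exact ⟨geometricallyReduced_of_perfect f Ω, hc⟩
  · rintro ⟨hr, hc⟩ x
    haveI : AlgebraicGeometry.IsReduced (FBase.bc f Ω) :=
      hr.geometrically_isReduced _ _ _ (IsPullback.of_hasPullback _ _)
    obtain ⟨z, rfl⟩ := (FBase.bcπ f Ω).surjective x
    exact isGeomPtIntegralAt_of_isDomain f z ((forall_isDomain_stalk_iff _).2 ⟨inferInstance, hc⟩ z)

end GrothLib.FBase7
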